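/-
Quadratic pairs under operators, part 1: conjugation by normalizing elements, the unipotent core of a root
subgroup and its regular action on the opposite root subgroups.
-/
import Cfsg.Agent.Chev.QuadMain
import Cfsg.Agent.Chev.QuadPD
import Cfsg.Agent.Grp.Coprime

set_option autoImplicit false
set_option linter.all false

namespace CL.QAct

open Module LinearMap Cfsg CL.Chev CL.Chev.Quad
open scoped commutatorElement MatrixGroups

section grp
variable {Γ : Type*} [Group Γ]

/-- Glauberman's lemma for the conjugation action on subgroups. -/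
theorem exists_conjBy_fixed [Finite Γ] {A K : Subgroup Γ} (hAK : A ≤ Subgroup.normalizer (K : Set Γ))
    (hcop : (Nat.card A).Coprime (Nat.card K)) (hs : Group.IsSolvable A ∨ Group.IsSolvable K) (S : Subgroup Γ)
    (h : ∀ a ∈ A, ∃ x ∈ K, conjBy S a = conjBy S x) :
    ∃ x ∈ K, ∀ a ∈ A, conjBy (conjBy S x) a = conjBy S x := by
  letI : MulAction Γ (Subgroup Γ) :=
    { smul := fun g S => conjBy S g
      one_smul := fun S => Root.conjBy_one S
      mul_smul := fun g h S => (Root.conjBy_conjBy S h g).symm }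
  exact CL.Grp.glauberman_exists_fixed hAK hcop hs S h

/-- Glauberman's lemma for the conjugation action on elements. -/
theorem exists_conj_fixed [Finite Γ] {A K : Subgroup Γ} (hAK : A ≤ Subgroup.normalizer (K : Set Γ))
    (hcop : (Nat.card A).Coprime (Nat.card K)) (hs : Group.IsSolvable A ∨ Group.IsSolvable K) (y : Γ)
    (h : ∀ a ∈ A, ∃ x ∈ K, a * y * a⁻¹ = x * y * x⁻¹) :
    ∃ x ∈ K, ∀ a ∈ A, a * (x * y * x⁻¹) * a⁻¹ = x * y * x⁻¹ := by
  letI : MulAction Γ Γ :=
    { smul := fun g y => g * y * g⁻¹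
      one_smul := fun y => by change 1 * y * 1⁻¹ = y; simp
      mul_smul := fun g h y => by change g * h * y * (g * h)⁻¹ = g * (h * y * h⁻¹) * g⁻¹; group }
  exact CL.Grp.glauberman_exists_fixed hAK hcop hs y h

/-- Two elements of order prime to `|N|` in the same coset of `N` are conjugate under `N`. -/
theorem exists_conj_of_coset [Finite Γ] {N : Subgroup Γ} {x y : Γ} (hy : y ∈ Subgroup.normalizer (N : Set Γ))
    (hxy : y * x⁻¹ ∈ N) (hx' : (orderOf x).Coprime (Nat.card N)) (hy' : (orderOf y).Coprime (Nat.card N)) :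
    ∃ u ∈ N, u * x * u⁻¹ = y := by
  have hx : x ∈ Subgroup.normalizer (N : Set Γ) := by
    have : x = (y * x⁻¹)⁻¹ * y := by group
    rw [this]
    exact Subgroup.mul_mem _ (Subgroup.inv_mem _ (Subgroup.le_normalizer hxy)) hy
  have hpow : ∀ n : ℕ, y ^ n * (x ^ n)⁻¹ ∈ N := by
    intro n
    induction n with
    | zero => simp
    | succ n ih =>
      have : y ^ (n + 1) * (x ^ (n + 1))⁻¹ = y * (y ^ n * (x ^ n)⁻¹) * y⁻¹ * (y * x⁻¹) := by group
      rw [this]
      exact N.mul_mem ((Subgroup.mem_normalizer_iff.1 hy _).1 ih) hxy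
  obtain ⟨u, hu, hfix⟩ := exists_conj_fixed (A := Subgroup.zpowers y) (K := N)
    (by rwa [Subgroup.zpowers_le]) (by rwa [Nat.card_zpowers]) (Or.inl (by infer_instance)) x (by
      intro a ha
      obtain ⟨n, rfl⟩ := (mem_powers_iff_mem_zpowers.2 ha)
      refine ⟨_, hpow n, ?_⟩
      simp only []
      group)
  refine ⟨u, hu, ?_⟩
  have hc : Commute y (u * x * u⁻¹) := by
    have := hfix y (Subgroup.mem_zpowers y)
    rw [Commute, SemiconjBy]
    calc y * (u * x * u⁻¹) = y * (u * x * u⁻¹) * y⁻¹ * y := by group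
      _ = _ := by rw [this]
  have hmem : u * x * u⁻¹ * y⁻¹ ∈ N := by
    have : u * x * u⁻¹ * y⁻¹ = u * (x * u⁻¹ * x⁻¹) * (y * x⁻¹)⁻¹ := by group
    rw [this]
    exact N.mul_mem (N.mul_mem hu ((Subgroup.mem_normalizer_iff.1 hx _).1 (N.inv_mem hu))) (N.inv_mem hxy)
  have h1 : orderOf (u * x * u⁻¹ * y⁻¹) ∣ orderOf x * orderOf y := by
    have := (hc.symm.inv_right).orderOf_mul_dvd_mul_orderOf
    rwa [orderOf_inv, show orderOf (u * x * u⁻¹) = orderOf x from
      (MulAut.conj u).orderOf_eq x] at this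
  have h2 : orderOf (u * x * u⁻¹ * y⁻¹) ∣ Nat.card N := by
    have := orderOf_dvd_natCard (⟨_, hmem⟩ : N)
    rwa [← Subgroup.orderOf_coe] at this
  have h3 : orderOf (u * x * u⁻¹ * y⁻¹) = 1 :=
    Nat.eq_one_of_dvd_coprimes (Nat.Coprime.mul_left hx' hy') h1 h2
  rw [orderOf_eq_one_iff] at h3
  exact mul_inv_eq_one.1 h3

theorem conjBy_biSup (S : Set (Subgroup Γ)) (g : Γ) :
    conjBy (⨆ B ∈ S, B) g = ⨆ B ∈ (fun B => conjBy B g) '' S, B := by
  rw [iSup_image]
  simp only [conjBy, Subgroup.map_iSup]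

end grp

variable {k : Type*} [Field k] {M : Type*} [AddCommGroup M] [Module k M]

local notation "GLM" => LinearMap.GeneralLinearGroup k M
local notation "Σ₀" => quadraticRootSubgroups

/-- Conjugation of endomorphisms by an invertible one. -/
def cj (g : GLM) : Module.End k M →ₐ[k] Module.End k M where
  toFun x := (g : Module.End k M) * x * ((g⁻¹ : GLM) : Module.End k M)
  map_one' := by simp
  map_mul' x y := by simp [mul_assoc]
  map_zero' := by simp
  map_add' x y := by simp [mul_add, add_mul]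
  commutes' c := by simp [Algebra.algebraMap_eq_smul_one]

theorem cj_apply (g : GLM) (x : Module.End k M) :
    cj g x = (g : Module.End k M) * x * ((g⁻¹ : GLM) : Module.End k M) := rfl

theorem cj_mul (g h : GLM) (x : Module.End k M) : cj (g * h) x = cj g (cj h x) := by
  simp [cj_apply, mul_assoc]

@[simp] theorem cj_one (x : Module.End k M) : cj (1 : GLM) x = x := by simp [cj_apply]

@[simp] theorem cj_inv_cj (g : GLM) (x : Module.End k M) : cj g⁻¹ (cj g x) = x := by
  rw [← cj_mul, inv_mul_cancel, cj_one]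

@[simp] theorem cj_cj_inv (g : GLM) (x : Module.End k M) : cj g (cj g⁻¹ x) = x := by
  rw [← cj_mul, mul_inv_cancel, cj_one]

theorem cj_inj (g : GLM) {x y : Module.End k M} : cj g x = cj g y ↔ x = y :=
  ⟨fun h => by rw [← cj_inv_cj g x, h, cj_inv_cj], fun h => h ▸ rfl⟩

theorem cj_eq_zero (g : GLM) {x : Module.End k M} : cj g x = 0 ↔ x = 0 := by
  rw [← cj_inj g (x := x) (y := 0), map_zero]

theorem cj_coe (g h : GLM) : cj g (h : Module.End k M) = ((g * h * g⁻¹ : GLM) : Module.End k M) := by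
  simp [cj_apply]

theorem cj_eq_iff (g : GLM) {x : Module.End k M} :
    cj g x = x ↔ (g : Module.End k M) * x = x * g := by
  rw [cj_apply]
  constructor
  · intro h
    calc (g : Module.End k M) * x = g * x * ((g⁻¹ : GLM) : Module.End k M) * g := by simp [mul_assoc]
      _ = x * g := by rw [h]
  · intro h
    rw [h]; simp [mul_assoc]

theorem cj_mul_coe (g : GLM) (x : Module.End k M) : cj g x * g = g * x := by simp [cj_apply, mul_assoc]

theorem cj_apply_apply (g : GLM) (x : Module.End k M) (m : M) :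
    cj g x ((g : Module.End k M) m) = (g : Module.End k M) (x m) := by
  rw [← Module.End.mul_apply, cj_mul_coe, Module.End.mul_apply]

theorem inv_apply_apply (g : GLM) (m : M) : ((g⁻¹ : GLM) : Module.End k M) ((g : Module.End k M) m) = m := by
  rw [← Module.End.mul_apply, Units.inv_mul]; rfl

theorem apply_inv_apply (g : GLM) (m : M) : (g : Module.End k M) (((g⁻¹ : GLM) : Module.End k M) m) = m := by
  rw [← Module.End.mul_apply, Units.mul_inv]; rfl

theorem apply_eq_zero (g : GLM) {m : M} : (g : Module.End k M) m = 0 ↔ m = 0 :=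
  ⟨fun h => by rw [← inv_apply_apply g m, h, map_zero], fun h => by rw [h, map_zero]⟩

theorem mem_range_cj (g : GLM) {x : Module.End k M} {m : M} :
    (g : Module.End k M) m ∈ LinearMap.range (cj g x) ↔ m ∈ LinearMap.range x := by
  constructor
  · rintro ⟨y, hy⟩
    refine ⟨((g⁻¹ : GLM) : Module.End k M) y, ?_⟩
    rw [← inv_apply_apply g m, ← hy, cj_apply]
    simp only [Module.End.mul_apply, inv_apply_apply]
  · rintro ⟨y, rfl⟩
    exact ⟨_, cj_apply_apply g x y⟩

theorem mem_ker_cj (g : GLM) {x : Module.End k M} {m : M} :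
    (g : Module.End k M) m ∈ LinearMap.ker (cj g x) ↔ m ∈ LinearMap.ker x := by
  rw [LinearMap.mem_ker, cj_apply_apply, apply_eq_zero, LinearMap.mem_ker]

theorem range_cj_le {g : GLM} {x y : Module.End k M} (h : LinearMap.range x ≤ LinearMap.range y) :
    LinearMap.range (cj g x) ≤ LinearMap.range (cj g y) := fun m hm => by
  rw [← apply_inv_apply g m, mem_range_cj] at hm ⊢
  exact h hm

theorem ker_cj_le {g : GLM} {x y : Module.End k M} (h : LinearMap.ker x ≤ LinearMap.ker y) :
    LinearMap.ker (cj g x) ≤ LinearMap.ker (cj g y) := fun m hm => by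
  rw [← apply_inv_apply g m, mem_ker_cj] at hm ⊢
  exact h hm

theorem ex_cj (g : GLM) {a : Module.End k M} (ha : a * a = 0) (ha' : cj g a * cj g a = 0) :
    ex (cj g a) ha' = g * ex a ha * g⁻¹ := Units.ext (by rw [← cj_coe]; simp)

theorem cj_sq {a : Module.End k M} (ha : a * a = 0) (g : GLM) : cj g a * cj g a = 0 := by
  rw [← map_mul, ha, map_zero]

theorem cj_ex {x : Module.End k M} (hx : x * x = 0) (a : Module.End k M) :
    cj (ex x hx) a = (1 + x) * a * (1 - x) := rfl

variable {G : Subgroup (LinearMap.GeneralLinearGroup k M)}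

theorem q0_cj {a : Module.End k M} (ha : Q0 G a) {g : GLM} (hg : g ∈ Subgroup.normalizer (G : Set GLM)) :
    Q0 G (cj g a) := by
  refine ⟨cj_sq ha.sq g, fun c τ hτ => ?_⟩
  rw [Subgroup.mem_normalizer_iff''.1 hg]
  refine ha.2 c _ ?_
  have := cj_coe g⁻¹ τ
  rw [inv_inv] at this
  rw [← this, hτ, map_add, map_one, map_smul, cj_inv_cj]

theorem q0_cj_iff {a : Module.End k M} {g : GLM} (hg : g ∈ Subgroup.normalizer (G : Set GLM)) :
    Q0 G (cj g a) ↔ Q0 G a :=
  ⟨fun h => by simpa using q0_cj h (Subgroup.inv_mem _ hg), fun h => q0_cj h hg⟩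

theorem mem_cls_cj {a b : Module.End k M} (h : b ∈ cls G a) {g : GLM} (hg : g ∈ Subgroup.normalizer (G : Set GLM)) :
    cj g b ∈ cls G (cj g a) :=
  ⟨q0_cj h.1 hg, fun m hm => by
    rw [← apply_inv_apply g m, mem_range_cj] at hm
    rw [← apply_inv_apply g m]
    exact ⟨(mem_range_cj g).2 (h.2.1 hm).1, (mem_ker_cj g).2 (h.2.1 hm).2⟩, ker_cj_le h.2.2⟩

theorem mem_cls_cj_iff {a b : Module.End k M} {g : GLM} (hg : g ∈ Subgroup.normalizer (G : Set GLM)) :
    cj g b ∈ cls G (cj g a) ↔ b ∈ cls G a :=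
  ⟨fun h => by simpa using mem_cls_cj h (Subgroup.inv_mem _ hg), fun h => mem_cls_cj h hg⟩

theorem conjBy_clsGrp' (a : Module.End k M) {g : GLM} (hg : g ∈ Subgroup.normalizer (G : Set GLM)) :
    conjBy (clsGrp G a) g = clsGrp G (cj g a) := by
  ext τ
  rw [Root.mem_conjBy, mem_clsGrp, mem_clsGrp, ← mem_cls_cj_iff hg, map_sub, map_one, cj_coe]
  simp [mul_assoc]

theorem opp_cj {a b : Module.End k M} (h : Opp a b) (g : GLM) : Opp (cj g a) (cj g b) := by
  have key : ∀ {a b : Module.End k M}, Disjoint (LinearMap.ker b) (LinearMap.range a) →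
      Disjoint (LinearMap.ker (cj g b)) (LinearMap.range (cj g a)) := by
    intro a b h
    rw [Submodule.disjoint_def] at h ⊢
    intro m h1 h2
    rw [← apply_inv_apply g m] at h1 h2 ⊢
    rw [h _ ((mem_ker_cj g).1 h1) ((mem_range_cj g).1 h2), map_zero]
  exact ⟨key h.1, key h.2⟩

theorem pair_cj {e f : Module.End k M} (h : Pair e f) (g : GLM) : Pair (cj g e) (cj g f) :=
  ⟨cj_sq h.ee g, cj_sq h.ff g, by rw [← map_mul, ← map_mul, h.efe], by rw [← map_mul, ← map_mul, h.fef]⟩

/-- the partner of `e` in a class is unique -/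
theorem pair_unique {e f f' : Module.End k M} (h : Pair e f) (h' : Pair e f') (hr : LinearMap.range f' ≤ LinearMap.range f)
    (hk : LinearMap.ker f' ≤ LinearMap.ker f) : f' = f := by
  have h1 := h.symm.mul_mul_of_ker (w := e) le_rfl
  have h2 : f * (e * f') = f' := h.mul_mul_of_range hr
  have h3 : f * (e * f') = f := h'.mul_mul_of_ker hk
  rw [← h2, h3]

variable [FiniteDimensional k M]

theorem min_cj {a : Module.End k M} (ha : Min G a) {g : GLM} (hg : g ∈ Subgroup.normalizer (G : Set GLM)) :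
    Min G (cj g a) :=
  ha.of_rk_le (q0_cj ha.q0 hg) (fun h => ha.ne ((cj_eq_zero g).1 h)) (rk_conj a g).le

theorem conjBy_mem_root' {A : Subgroup GLM} (hA : A ∈ Σ₀ G) {g : GLM}
    (hg : g ∈ Subgroup.normalizer (G : Set GLM)) : conjBy A g ∈ Σ₀ G := by
  obtain ⟨a, ha, rfl⟩ := mem_quadraticRootSubgroups.1 hA
  rw [conjBy_clsGrp' a hg]
  exact clsGrp_mem (min_cj ha hg)

theorem conjBy_mem_comp' {A B : Subgroup GLM} (hB : B ∈ comp G A) {g : GLM}
    (hg : g ∈ Subgroup.normalizer (G : Set GLM)) : conjBy B g ∈ comp G (conjBy A g) := by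
  refine ⟨conjBy_mem_root' hB.1 hg, ?_⟩
  obtain ⟨-, h⟩ := hB
  induction h with
  | refl => exact .refl
  | tail _ h ih =>
    refine ih.tail ⟨conjBy_mem_root' h.1 hg, conjBy_mem_root' h.2.1 hg, ?_⟩
    rw [← Root.conjBy_commutator, Ne, Root.conjBy_eq_bot_iff]
    exact h.2.2

theorem conjBy_compGrp' (A : Subgroup GLM) {g : GLM} (hg : g ∈ Subgroup.normalizer (G : Set GLM)) :
    conjBy (compGrp G A) g = compGrp G (conjBy A g) := by
  rw [compGrp, conjBy_biSup, compGrp]
  suffices (fun B => conjBy B g) '' comp G A = comp G (conjBy A g) by rw [this]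
  ext B
  refine ⟨?_, fun h => ⟨conjBy B g⁻¹, ?_, Root.conjBy_inv_conjBy B g⟩⟩
  · rintro ⟨C, hC, rfl⟩
    exact conjBy_mem_comp' hC hg
  · have := conjBy_mem_comp' h (Subgroup.inv_mem _ hg)
    rwa [Root.conjBy_conjBy_inv] at this

theorem conjBy_root0' {g : GLM} (hg : g ∈ Subgroup.normalizer (G : Set GLM)) : conjBy (root0 G) g = root0 G :=
  conjBy_biSup_eq (fun _ hB => conjBy_mem_root' hB hg) fun _ hB => conjBy_mem_root' hB (Subgroup.inv_mem _ hg)

theorem compGrp_le (A : Subgroup GLM) : compGrp G A ≤ G := compGrp_le_root0.trans root0_le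

theorem comp_eq_of_compGrp_eq (H : Hyp k) (hG : NoUnip G) {A B : Subgroup GLM} (hA : A ∈ Σ₀ G)
    (h : compGrp G A = compGrp G B) : comp G A = comp G B := by
  by_contra hne
  have h1 := commutator_compGrp hne
  rw [← h, compGrp_perfect H hG] at h1
  obtain ⟨a, ha, rfl⟩ := mem_quadraticRootSubgroups.1 hA
  exact clsGrp_ne_bot ha (le_bot_iff.1 (h1 ▸ le_biSup_self (self_mem_comp hA)))

theorem conjBy_mem_comp_of_norm (H : Hyp k) (hG : NoUnip G) {A B : Subgroup GLM} (hA : A ∈ Σ₀ G) {g : GLM}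
    (hg : g ∈ Subgroup.normalizer (G : Set GLM)) (hK : g ∈ Subgroup.normalizer (compGrp G A : Set GLM))
    (hB : B ∈ comp G A) : conjBy B g ∈ comp G A := by
  have h1 := conjBy_compGrp' A hg
  rw [Root.mem_normalizer_iff_conjBy.1 hK] at h1
  rw [comp_eq_of_compGrp_eq H hG hA h1]
  exact conjBy_mem_comp' hB hg

theorem cj_mem_cls_of_conjBy {a x : Module.End k M} {g : GLM} (hg : g ∈ Subgroup.normalizer (G : Set GLM))
    (h : conjBy (clsGrp G a) g = clsGrp G a) (hx : x ∈ cls G a) : cj g x ∈ cls G a := by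
  have h1 := mem_cls_cj hx hg
  have h2 := ex_mem_clsGrp h1
  rw [← conjBy_clsGrp' a hg, h, mem_clsGrp] at h2
  simpa using h2

theorem conjBy_eq_of_cj_mem {a : Module.End k M} (ha : Min G a) {g : GLM} (hg : g ∈ Subgroup.normalizer (G : Set GLM))
    (h : cj g a ∈ cls G a) : conjBy (clsGrp G a) g = clsGrp G a := by
  rw [conjBy_clsGrp' a hg, ha.clsGrp_eq h fun h0 => ha.ne ((cj_eq_zero g).1 h0)]

/-! ### The unipotent core -/

/-- The elements of `G` acting trivially on the factors of the flag `0 ≤ range a ≤ ker a ≤ M`. -/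
def core (G : Subgroup GLM) (a : Module.End k M) : Subgroup GLM where
  carrier := {g | g ∈ G ∧ (∀ m, (g : Module.End k M) m - m ∈ LinearMap.ker a) ∧
    (∀ m ∈ LinearMap.ker a, (g : Module.End k M) m - m ∈ LinearMap.range a) ∧
    ∀ m ∈ LinearMap.range a, (g : Module.End k M) m = m}
  one_mem' := ⟨G.one_mem, by simp, by simp, by simp⟩
  mul_mem' := by
    rintro g h ⟨g0, g1, g2, g3⟩ ⟨h0, h1, h2, h3⟩
    have e : ∀ m, ((g * h : GLM) : Module.End k M) m - m =
        ((g : Module.End k M) ((h : Module.End k M) m) - (h : Module.End k M) m) + ((h : Module.End k M) m - m) :=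
      fun m => by simp
    refine ⟨G.mul_mem g0 h0, fun m => ?_, fun m hm => ?_, fun m hm => ?_⟩
    · rw [e]; exact Submodule.add_mem _ (g1 _) (h1 _)
    · rw [e]
      refine Submodule.add_mem _ (g2 _ ?_) (h2 _ hm)
      simpa using Submodule.add_mem _ (h1 m) hm
    · rw [Units.val_mul, Module.End.mul_apply, h3 m hm, g3 m hm]
  inv_mem' := by
    rintro g ⟨g0, g1, g2, g3⟩
    have e : ∀ m, ((g⁻¹ : GLM) : Module.End k M) m - m =
        -((g : Module.End k M) (((g⁻¹ : GLM) : Module.End k M) m) - ((g⁻¹ : GLM) : Module.End k M) m) :=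
      fun m => by rw [apply_inv_apply]; abel
    have h1 : ∀ m, ((g⁻¹ : GLM) : Module.End k M) m - m ∈ LinearMap.ker a := fun m => by
      rw [e]; exact Submodule.neg_mem _ (g1 _)
    refine ⟨G.inv_mem g0, h1, fun m hm => ?_, fun m hm => ?_⟩
    · rw [e]
      refine Submodule.neg_mem _ (g2 _ ?_)
      simpa using Submodule.add_mem _ (h1 m) hm
    · conv_lhs => rw [← g3 m hm, inv_apply_apply]

theorem core_le (a : Module.End k M) : core G a ≤ G := fun _ h => h.1

theorem core_congr {a b : Module.End k M} (h1 : LinearMap.range a = LinearMap.range b)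
    (h2 : LinearMap.ker a = LinearMap.ker b) : core G a = core G b := by
  ext g
  change _ ∧ _ ↔ _ ∧ _
  rw [h1, h2]

theorem conj_mem_core {a : Module.End k M} {u g : GLM} (hu : u ∈ core G a)
    (hg : g ∈ Subgroup.normalizer (G : Set GLM)) : g * u * g⁻¹ ∈ core G (cj g a) := by
  obtain ⟨u0, u1, u2, u3⟩ := hu
  have e : ∀ m, ((g * u * g⁻¹ : GLM) : Module.End k M) ((g : Module.End k M) m) =
      (g : Module.End k M) ((u : Module.End k M) m) := fun m => by rw [← cj_coe, cj_apply_apply]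
  refine ⟨(Subgroup.mem_normalizer_iff.1 hg u).1 u0, fun m => ?_, fun m hm => ?_, fun m hm => ?_⟩
  · rw [← apply_inv_apply g m, e, ← map_sub, mem_ker_cj]; exact u1 _
  · rw [← apply_inv_apply g m, mem_ker_cj] at hm
    rw [← apply_inv_apply g m, e, ← map_sub, mem_range_cj]; exact u2 _ hm
  · rw [← apply_inv_apply g m, mem_range_cj] at hm
    rw [← apply_inv_apply g m, e, u3 _ hm]

theorem mem_normalizer_core {a : Module.End k M} (ha : Min G a) {g : GLM}
    (hg : g ∈ Subgroup.normalizer (G : Set GLM)) (h : conjBy (clsGrp G a) g = clsGrp G a) :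
    g ∈ Subgroup.normalizer (core G a : Set GLM) := by
  have key : ∀ g : GLM, g ∈ Subgroup.normalizer (G : Set GLM) → conjBy (clsGrp G a) g = clsGrp G a →
      ∀ u ∈ core G a, g * u * g⁻¹ ∈ core G a := by
    intro g hg h u hu
    have h1 := cj_mem_cls_of_conjBy hg h (self_mem_cls ha.q0)
    have h0 : cj g a ≠ 0 := fun h0 => ha.ne ((cj_eq_zero g).1 h0)
    rw [← core_congr (ha.range_eq_of_mem h1 h0) (ha.ker_eq_of_mem h1 h0)]
    exact conj_mem_core hu hg
  rw [Subgroup.mem_normalizer_iff]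
  refine fun u => ⟨key g hg h u, fun hu => ?_⟩
  have := key g⁻¹ (Subgroup.inv_mem _ hg) (Root.conjBy_inv_eq_self h) _ hu
  simpa [mul_assoc] using this

theorem core_mul_left {a x : Module.End k M} {u : GLM} (hu : u ∈ core G a)
    (hx : LinearMap.range x ≤ LinearMap.range a) : (u : Module.End k M) * x = x :=
  LinearMap.ext fun m => hu.2.2.2 _ (hx ⟨m, rfl⟩)

theorem core_mul_right {a x : Module.End k M} {u : GLM} (hu : u ∈ core G a)
    (hx : LinearMap.ker a ≤ LinearMap.ker x) : x * (u : Module.End k M) = x :=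
  LinearMap.ext fun m => by
    have := hx (hu.2.1 m)
    rwa [LinearMap.mem_ker, map_sub, sub_eq_zero] at this

theorem cj_core {a x : Module.End k M} {u : GLM} (hu : u ∈ core G a) (hx : x ∈ cls G a) : cj u x = x := by
  rw [cj_apply, core_mul_left hu (cls_range hx), core_mul_right (Subgroup.inv_mem _ hu) (cls_ker hx)]

theorem core_cube {a : Module.End k M} {u : GLM} (hu : u ∈ core G a) : ((u : Module.End k M) - 1) ^ 3 = 0 := by
  ext m
  have h1 := hu.2.2.2 _ (hu.2.2.1 _ (hu.2.1 m))
  simp only [pow_succ', pow_zero, mul_one, Module.End.mul_apply, LinearMap.sub_apply, Module.End.one_apply,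
    LinearMap.zero_apply]
  rw [h1, sub_self]

theorem core_isPGroup {p : ℕ} [hp : Fact p.Prime] [CharP k p] (h3 : 3 ≤ p) (a : Module.End k M) :
    IsPGroup p (core G a) := by
  intro u
  refine ⟨1, Subtype.ext (Units.ext ?_)⟩
  by_cases hM : Nontrivial (Module.End k M)
  · haveI : CharP (Module.End k M) p := charP_of_injective_algebraMap (algebraMap k _).injective p
    have h1 := sub_pow_char_of_commute p (Commute.one_right ((u : GLM) : Module.End k M))
    rw [one_pow, pow_eq_zero_of_le h3 (core_cube u.2), eq_comm, sub_eq_zero] at h1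
    simpa using h1
  · exact (not_nontrivial_iff_subsingleton.1 hM).elim _ _

/-- a diagonal matrix of `SL₂` -/
def dgE {K : Type*} [Field K] (c : Kˣ) : SL(2, K) :=
  ⟨!![(c : K), 0; 0, ((c⁻¹ : Kˣ) : K)], by simp [Matrix.det_fin_two]⟩

theorem dgE_val {K : Type*} [Field K] (c : Kˣ) :
    ((dgE c : SL(2, K)) : Matrix (Fin 2) (Fin 2) K) = !![(c : K), 0; 0, ((c⁻¹ : Kˣ) : K)] := rfl

/-- the diagonal torus of `SL₂` -/
def dg (K : Type*) [Field K] : Kˣ →* SL(2, K) where
  toFun := dgE
  map_one' := by ext i j; fin_cases i <;> fin_cases j <;> simp [dgE_val]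
  map_mul' c d := by
    ext i j; fin_cases i <;> fin_cases j <;> simp [dgE_val, Matrix.mul_apply, Fin.sum_univ_two, mul_comm]

theorem dg_val {K : Type*} [Field K] (c : Kˣ) :
    ((dg K c : SL(2, K)) : Matrix (Fin 2) (Fin 2) K) = !![(c : K), 0; 0, ((c⁻¹ : Kˣ) : K)] := rfl

/-- the torus of a pair -/
noncomputable def tor {e f : Module.End k M} (h : Pair e f) : kˣ →* GLM :=
  (sl2Hom h (scal_smul e f)).comp (dg k)

theorem tor_val {e f : Module.End k M} (h : Pair e f) (c : kˣ) : (tor h c : Module.End k M) =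
    1 + ((c : k) - 1) • (e * f) + (((c⁻¹ : kˣ) : k) - 1) • (f * e) := by
  rw [tor, MonoidHom.comp_apply, sl2Hom_val]
  simp [sub_smul, dg_val]
  abel

theorem sl2Hom_mem {e f : Module.End k M} (h : Pair e f) {X : Subgroup GLM}
    (hX : ∀ c : k, ex (c • e) (smul_sq_zero h.ee c) ∈ X) (hX' : ∀ c : k, ex (c • f) (smul_sq_zero h.ff c) ∈ X)
    (A : SL(2, k)) : sl2Hom h (scal_smul e f) A ∈ X := by
  have hle : (⊤ : Subgroup SL(2, k)).map (sl2Hom h (scal_smul e f)) ≤ X := by
    rw [← upper_sup_lower, Subgroup.map_sup]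
    exact sup_le (map_upper_le h hX) (map_lower_le h hX')
  exact hle ⟨A, trivial, rfl⟩

theorem tor_mem {e f : Module.End k M} (h : Pair e f) (he : Q0 G e) (hf : Q0 G f) (c : kˣ) : tor h c ∈ G :=
  sl2Hom_mem h he.ex_smul_mem hf.ex_smul_mem _

theorem tor_inv {e f : Module.End k M} (h : Pair e f) (c : kˣ) : (tor h c)⁻¹ = tor h c⁻¹ := (map_inv _ _).symm

theorem tor_mul_inv_mem {a f f' : Module.End k M} (ha : Q0 G a) (hf : Q0 G f) (hf' : Q0 G f') (h : Pair a f)
    (h' : Pair a f') (c : kˣ) : tor h' c * (tor h c)⁻¹ ∈ core G a := by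
  have hc : (c : k) * (c : k)⁻¹ = 1 := by simp
  refine ⟨G.mul_mem (tor_mem h' ha hf' c) (G.inv_mem (tor_mem h ha hf c)), fun m => ?_, fun m hm => ?_, ?_⟩
  · have : a * ((tor h' c * (tor h c)⁻¹ : GLM) : Module.End k M) = a := by
      rw [tor_inv, Units.val_mul, tor_val, tor_val, ← mul_assoc]
      simp only [mul_add, add_mul, mul_one, mul_smul_comm, smul_mul_assoc, h.ee', h'.ee', h.efe₀, h'.efe₀, smul_zero,
        add_zero, inv_inv, smul_add, smul_smul]
      match_scalars
      linear_combination hc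
    rw [LinearMap.mem_ker, map_sub, ← Module.End.mul_apply, this, sub_self]
  · rw [LinearMap.mem_ker] at hm
    rw [tor_inv, Units.val_mul, tor_val, tor_val]
    simp only [Module.End.mul_apply, LinearMap.add_apply, Module.End.one_apply, LinearMap.smul_apply, hm, map_zero,
      smul_zero, add_zero, map_add, map_smul, ← Module.End.mul_apply a a, h.ee, LinearMap.zero_apply]
    refine ⟨(((c⁻¹ : kˣ) : k) - 1) • f m + ((c : k) - 1) • (f' m + (((c⁻¹ : kˣ) : k) - 1) • f' (a (f m))), ?_⟩
    simp only [map_add, map_smul]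
    module
  · rintro _ ⟨m, rfl⟩
    have : ((tor h' c * (tor h c)⁻¹ : GLM) : Module.End k M) * a = a := by
      rw [tor_inv, Units.val_mul, tor_val, tor_val, mul_assoc]
      simp only [mul_add, add_mul, mul_one, one_mul, mul_smul_comm, smul_mul_assoc, mul_assoc, h.ee, h.efe₀, h'.efe₀,
        smul_zero, mul_zero, add_zero, inv_inv, smul_add, smul_smul]
      match_scalars
      linear_combination hc
    rw [← Module.End.mul_apply, this]

theorem cj_tor_left {a f : Module.End k M} (h : Pair a f) (c : kˣ) {x : Module.End k M}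
    (h1 : LinearMap.range x ≤ LinearMap.range a) (h2 : LinearMap.ker a ≤ LinearMap.ker x) :
    cj (tor h c) x = ((c : k) ^ 2) • x := by
  have e1 : a * (f * x) = x := h.symm.mul_mul_of_range h1
  have e2 : x * (f * a) = x := h.symm.mul_mul_of_ker h2
  have e3 : a * x = 0 := mul_eq_zero_of_range_le h1 h.ee
  have e4 : x * a = 0 := mul_eq_zero_of_ker_le h2 h.ee
  have e4' : ∀ y, x * (a * y) = 0 := fun y => by rw [← mul_assoc, e4, zero_mul]
  rw [cj_apply, tor_inv, tor_val, tor_val]
  simp only [mul_add, add_mul, mul_one, one_mul, mul_smul_comm, smul_mul_assoc, mul_assoc, e1, e2, e3, e4', mul_zero,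
    smul_zero, add_zero, inv_inv, smul_add, smul_smul]
  match_scalars
  ring

/-- The core of `a` is transitive on the partners of `a`. -/
theorem exists_core_cj [Finite k] {p : ℕ} [hp : Fact p.Prime] [CharP k p] (H : Hyp k) {a f f' : Module.End k M}
    (ha : Min G a) (hf : Q0 G f) (hf' : Q0 G f') (h : Pair a f) (h' : Pair a f') :
    ∃ u ∈ core G a, cj u f = f' := by
  haveI : Finite M := Module.finite_of_finite k
  haveI : Finite (Module.End k M) := Finite.of_injective _ DFunLike.coe_injective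
  obtain ⟨c, hc0, hc⟩ := H.three
  have hp3 : 3 ≤ p := by
    have h2 : p ≠ 2 := by
      rintro rfl
      exact H.two (by exact_mod_cast CharP.cast_eq_zero k 2)
    have := hp.out.two_le
    omega
  have hord : ∀ {f : Module.End k M} (h : Pair a f),
      (orderOf (tor h (Units.mk0 c hc0))).Coprime (Nat.card (core G a)) := by
    intro f h
    obtain ⟨n, hn⟩ := IsPGroup.iff_card.1 (core_isPGroup (G := G) hp3 a)
    rw [hn]
    refine Nat.Coprime.pow_right _ (Nat.Coprime.coprime_dvd_left (k := Nat.card kˣ) (orderOf_dvd_of_pow_eq_one ?_) ?_)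
    · rw [← map_pow, pow_card_eq_one', map_one]
    · haveI := Fintype.ofFinite k
      obtain ⟨m, -, hm⟩ := FiniteField.card k p
      rw [Nat.card_units, Nat.card_eq_fintype_card, hm]
      have : 1 ≤ p ^ (m : ℕ) := Nat.one_le_pow _ _ hp.out.pos
      exact ((Nat.coprime_self_sub_left this).2 (Nat.coprime_one_left _)).coprime_dvd_right
        (dvd_pow_self p m.ne_zero)
  set d := Units.mk0 c hc0
  have hG : ∀ {g : GLM}, g ∈ G → g ∈ Subgroup.normalizer (G : Set GLM) := fun hg => Subgroup.le_normalizer hg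
  obtain ⟨u, hu, e⟩ := exists_conj_of_coset (N := core G a) (x := tor h d) (y := tor h' d)
    (mem_normalizer_core ha (hG (tor_mem h' ha.q0 hf' d)) (conjBy_eq_of_cj_mem ha (hG (tor_mem h' ha.q0 hf' d)) (by
      rw [cj_tor_left h' d le_rfl le_rfl]
      exact Submodule.smul_mem _ _ (self_mem_cls ha.q0))))
    (tor_mul_inv_mem ha.q0 hf hf' h h' d) (hord h) (hord h')
  refine ⟨u, hu, ?_⟩
  have ea : cj u a = a := cj_core hu (self_mem_cls ha.q0)
  have hF : Pair a (cj u f) := by simpa [ea] using pair_cj h u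
  generalize hFF : cj u f = F at hF
  have e1 := congrArg (fun g : GLM => (g : Module.End k M)) e
  simp only [← cj_coe, tor_val, map_add, map_one, map_smul, map_mul, ea, hFF] at e1
  have hc1 : (c : k) - 1 ≠ 0 := fun h0 => hc (by rw [sub_eq_zero.1 h0, one_pow])
  have hc2 : (c⁻¹ : k) - c ≠ 0 := fun h0 => hc (by
    rw [sq]; nth_rewrite 1 [← sub_eq_zero.1 h0]; exact inv_mul_cancel₀ hc0)
  have hc3 : (c⁻¹ : k) - 1 ≠ 0 := fun h0 => hc1 (by
    rw [sub_eq_zero, inv_eq_one] at h0; rw [h0, sub_self])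
  have hd : (d : k) = c := rfl
  have hd' : ((d⁻¹ : kˣ) : k) = c⁻¹ := by simp [d]
  rw [hd, hd'] at e1
  have e2 : (c - 1) • (a * F) + (c⁻¹ - 1) • (F * a) = (c - 1) • (a * f') + (c⁻¹ - 1) • (f' * a) := by
    rw [add_assoc, add_assoc, add_right_inj] at e1
    exact e1
  have sq : ∀ {F : Module.End k M}, Pair a F → ((c - 1) • (a * F) + (c⁻¹ - 1) • (F * a)) ^ 2 =
      (c - 1) ^ 2 • (a * F) + (c⁻¹ - 1) ^ 2 • (F * a) := by
    intro F hF
    simp only [sq, mul_add, add_mul, mul_smul_comm, smul_mul_assoc, mul_assoc, hF.ee', hF.ff', hF.efe', hF.fef',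
      mul_zero, smul_zero, add_zero, zero_add, smul_smul]
  have e3 := congrArg (fun x => x ^ 2) e2
  simp only [sq hF, sq h'] at e3
  have e4 : F * a = f' * a := by
    have : ((c⁻¹ - 1) * (c⁻¹ - c)) • (F * a - f' * a) = 0 := by
      linear_combination (norm := module) e3 - (c - 1) • e2
    exact sub_eq_zero.1 ((smul_eq_zero.1 this).resolve_left (mul_ne_zero hc3 hc2))
  have e5 : a * F = a * f' := by
    rw [e4, add_left_inj] at e2
    exact smul_right_injective _ hc1 e2
  rw [← hF.fef, e4, mul_assoc, e5, ← mul_assoc, h'.fef]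

/-- The core of `a` is transitive on the classes opposite to `a`. -/
theorem exists_core_conjBy [Finite k] {p : ℕ} [hp : Fact p.Prime] [CharP k p] (H : Hyp k) {a b b' : Module.End k M}
    (ha : Min G a) (hb : Min G b) (hb' : Min G b') (h : Opp a b) (h' : Opp a b') :
    ∃ u ∈ core G a, conjBy (clsGrp G b) u = clsGrp G b' := by
  obtain ⟨f, hf, hf0, hp⟩ := h.exists_pair H ha hb
  obtain ⟨f', hf', hf0', hp'⟩ := h'.exists_pair H ha hb'
  obtain ⟨u, hu, e⟩ := exists_core_cj H ha hf.1 hf'.1 hp hp'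
  refine ⟨u, hu, ?_⟩
  rw [← hb.clsGrp_eq hf hf0, conjBy_clsGrp' f (Subgroup.le_normalizer hu.1), e, hb'.clsGrp_eq hf' hf0']

end CL.QAct
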