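/-
Quadratic pairs under operators, part 2: over a finite field a root subgroup carries the structure of a field.
-/
import Cfsg.Agent.QAct.Basic
import Cfsg.Agent.Even.Jordan

set_option autoImplicit false
set_option linter.all false

namespace CL.QAct

open Module LinearMap Cfsg CL.Chev CL.Chev.Quad
open scoped commutatorElement MatrixGroups

variable {k : Type*} [Field k] {M : Type*} [AddCommGroup M] [Module k M]

local notation "GLM" => LinearMap.GeneralLinearGroup k M

/-- An `sl₂`-pair of minimal quadratic elements. -/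
structure Fr (G : Subgroup GLM) (e f : Module.End k M) : Prop where
  he : Min G e
  hf : Min G f
  p : Pair e f

variable {G : Subgroup (LinearMap.GeneralLinearGroup k M)} {e f : Module.End k M}

theorem Fr.symm (F : Fr G e f) : Fr G f e := ⟨F.hf, F.he, F.p.symm⟩

theorem Fr.efx (F : Fr G e f) {x : Module.End k M} (hx : x ∈ cls G e) : e * (f * x) = x :=
  F.p.symm.mul_mul_of_range (cls_range hx)

theorem Fr.xfe (F : Fr G e f) {x : Module.End k M} (hx : x ∈ cls G e) : x * (f * e) = x :=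
  F.p.symm.mul_mul_of_ker (cls_ker hx)

theorem Fr.efx' (F : Fr G e f) {x : Module.End k M} (hx : x ∈ cls G e) (y : Module.End k M) :
    e * (f * (x * y)) = x * y := by rw [← mul_assoc f, ← mul_assoc, F.efx hx]

theorem Fr.xfe' (F : Fr G e f) {x : Module.End k M} (hx : x ∈ cls G e) (y : Module.End k M) :
    x * (f * (e * y)) = x * y := by rw [← mul_assoc f, ← mul_assoc, F.xfe hx]

theorem Fr.self_mem (F : Fr G e f) : e ∈ cls G e := self_mem_cls F.he.q0

theorem cls_mul' {a b b' : Module.End k M} (h : b ∈ cls G a) (h' : b' ∈ cls G a) (y : Module.End k M) :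
    b * (b' * y) = 0 := by rw [← mul_assoc, cls_mul h h', zero_mul]

variable [FiniteDimensional k M]

theorem Fr.conj (F : Fr G e f) {g : GLM} (hg : g ∈ Subgroup.normalizer (G : Set GLM)) : Fr G (cj g e) (cj g f) :=
  ⟨min_cj F.he hg, min_cj F.hf hg, pair_cj F.p g⟩

theorem Fr.exists_partner (H : Hyp k) (F : Fr G e f) {x : Module.End k M} (hx : x ∈ cls G e) (h0 : x ≠ 0) :
    ∃ g ∈ cls G f, Fr G x g := by
  have hm := F.he.of_mem_cls hx h0
  obtain ⟨g, hg, hg0, hp⟩ := (F.p.opp.of_mem F.he F.hf hx h0 F.symm.self_mem F.hf.ne).exists_pair H hm F.hf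
  exact ⟨g, hg, hm, F.hf.of_mem_cls hg hg0, hp⟩

theorem Fr.jordan (H : Hyp k) (F : Fr G e f) {x w : Module.End k M} (hx : x ∈ cls G e) (hw : w ∈ cls G f) :
    x * w * x ∈ cls G e := by
  by_cases h0 : x = 0
  · simp [h0]
  have hm := F.he.of_mem_cls hx h0
  have := (F.p.opp.of_mem F.he F.hf hx h0 F.symm.self_mem F.hf.ne).jordan H hm F.hf hw
  rwa [F.he.cls_eq hx h0] at this

theorem Fr.jordan' (H : Hyp k) (F : Fr G e f) {x y w : Module.End k M} (hx : x ∈ cls G e) (hy : y ∈ cls G e)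
    (hw : w ∈ cls G f) : x * w * y + y * w * x ∈ cls G e := by
  have := Submodule.sub_mem _ (Submodule.sub_mem _ (F.jordan H (Submodule.add_mem _ hx hy) hw) (F.jordan H hx hw))
    (F.jordan H hy hw)
  convert this using 1
  noncomm_ring

theorem Fr.exists_inv (H : Hyp k) (F : Fr G e f) {x : Module.End k M} (hx : x ∈ cls G e) (h0 : x ≠ 0) :
    ∃ y ∈ cls G e, x * (f * y) = e ∧ y * (f * x) = e := by
  obtain ⟨g, hg, F'⟩ := F.exists_partner H hx h0
  have he : e ∈ cls G x := by rw [F.he.cls_eq hx h0]; exact F.self_mem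
  refine ⟨e * g * e, F.jordan H F.self_mem hg, ?_, ?_⟩
  · simp only [mul_assoc, F.xfe' hx, F'.efx he]
  · simp only [mul_assoc, F.efx hx, F'.xfe he]

theorem Fr.comm [Finite k] (H : Hyp k) (F : Fr G e f) {x y : Module.End k M} (hx : x ∈ cls G e) (hy : y ∈ cls G e) :
    x * (f * y) = y * (f * x) := by
  let U := LinearMap.range e
  let A : Submodule k (Module.End k U) :=
    { carrier := {t | ∃ x ∈ cls G e, ∀ u : U, (t u : M) = x (f u)}
      add_mem' := by
        rintro t t' ⟨x, hx, h⟩ ⟨x', hx', h'⟩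
        exact ⟨x + x', Submodule.add_mem _ hx hx', fun u => by simp [h, h']⟩
      zero_mem' := ⟨0, Submodule.zero_mem _, fun u => by simp⟩
      smul_mem' := by
        rintro c t ⟨x, hx, h⟩
        exact ⟨c • x, Submodule.smul_mem _ c hx, fun u => by simp [h]⟩ }
  have hef : ∀ u : U, e (f u) = u := by
    rintro ⟨_, m, rfl⟩
    rw [← Module.End.mul_apply, ← Module.End.mul_apply, F.p.efe]
  have hex : ∀ x ∈ cls G e, ∃ t ∈ A, ∀ u : U, (t u : M) = x (f u) := fun x hx =>
    ⟨(x * f).restrict (p := U) (q := U) fun m _ => cls_range hx ⟨_, rfl⟩, ⟨x, hx, fun u => rfl⟩, fun u => rfl⟩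
  obtain ⟨s, hs, es⟩ := hex x hx
  obtain ⟨t, ht, et⟩ := hex y hy
  have hc := CL.Even.jordan_end_comm A ⟨e, F.self_mem, fun u => by simp [hef]⟩ (by
    rintro s ⟨x, hx, es⟩ t ⟨y, hy, et⟩
    refine ⟨x * (f * y * f) * x, F.jordan H hx (F.symm.jordan H F.symm.self_mem hy), fun u => ?_⟩
    simp [es, et]) (by
    rintro s ⟨x, hx, es⟩ h0
    have hx0 : x ≠ 0 := by
      rintro rfl
      exact h0 (LinearMap.ext fun u => Subtype.ext (by simpa using es u))
    obtain ⟨y, hy, h1, h2⟩ := F.exists_inv H hx hx0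
    obtain ⟨t, -, et⟩ := hex y hy
    refine ⟨⟨s, t, LinearMap.ext fun u => Subtype.ext ?_, LinearMap.ext fun u => Subtype.ext ?_⟩, rfl⟩
    · rw [Module.End.mul_apply, es, et, ← Module.End.mul_apply f, ← Module.End.mul_apply x, h1, hef]; rfl
    · rw [Module.End.mul_apply, et, es, ← Module.End.mul_apply f, ← Module.End.mul_apply y, h2, hef]; rfl) hs ht
  have h1 : x * (f * y) * (f * e) = y * (f * x) * (f * e) := by
    ext m
    have := congrArg (fun t : Module.End k U => (t ⟨e m, m, rfl⟩ : M)) hc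
    simpa [es, et] using this
  simpa only [mul_assoc, F.xfe hx, F.xfe hy] using h1

theorem Fr.comm' [Finite k] (H : Hyp k) (F : Fr G e f) {x y : Module.End k M} (hx : x ∈ cls G e) (hy : y ∈ cls G e)
    (w : Module.End k M) : x * (f * (y * w)) = y * (f * (x * w)) := by
  rw [← mul_assoc f, ← mul_assoc, F.comm H hx hy, mul_assoc, mul_assoc]

theorem Fr.mul_mem [Finite k] (H : Hyp k) (F : Fr G e f) {x y : Module.End k M} (hx : x ∈ cls G e)
    (hy : y ∈ cls G e) : x * (f * y) ∈ cls G e := by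
  have h1 := F.jordan' H hx hy F.symm.self_mem
  rw [mul_assoc, mul_assoc, ← F.comm H hx hy, ← two_smul k] at h1
  have := Submodule.smul_mem _ (2 : k)⁻¹ h1
  rwa [smul_smul, inv_mul_cancel₀ H.two, one_smul] at this

theorem Fr.eq_zero_or (H : Hyp k) (F : Fr G e f) {x : Module.End k M} (hx : x ∈ cls G e) {w : Module.End k M}
    (hw : e * (f * w) = w) (h : x * (f * w) = 0) : x = 0 ∨ w = 0 := by
  by_cases h0 : x = 0
  · exact Or.inl h0
  obtain ⟨y, -, -, h2⟩ := F.exists_inv H hx h0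
  right
  rw [← hw, ← h2, mul_assoc, mul_assoc, h, mul_zero, mul_zero]

/-- the field carried by a root subgroup -/
def JF (G : Subgroup GLM) (e f : Module.End k M) : Type _ := ↥(cls G e)

instance : AddCommGroup (JF G e f) := inferInstanceAs (AddCommGroup ↥(cls G e))

/-- the ring structure on a root subgroup -/
@[reducible] noncomputable def Fr.ring [Finite k] (H : Hyp k) (F : Fr G e f) : CommRing (JF G e f) :=
  { (inferInstance : AddCommGroup (JF G e f)) with
    mul := fun x y => ⟨x.1 * (f * y.1), F.mul_mem H x.2 y.2⟩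
    one := ⟨e, F.self_mem⟩
    mul_assoc := fun x y z => Subtype.ext (show x.1 * (f * y.1) * (f * z.1) = x.1 * (f * (y.1 * (f * z.1))) by
      simp only [mul_assoc])
    mul_comm := fun x y => Subtype.ext (F.comm H x.2 y.2)
    one_mul := fun x => Subtype.ext (F.efx x.2)
    mul_one := fun x => Subtype.ext (F.xfe x.2)
    left_distrib := fun x y z => Subtype.ext (show x.1 * (f * (y.1 + z.1)) = x.1 * (f * y.1) + x.1 * (f * z.1) by
      simp only [mul_add])
    right_distrib := fun x y z => Subtype.ext (show (x.1 + y.1) * (f * z.1) = x.1 * (f * z.1) + y.1 * (f * z.1) by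
      simp only [add_mul])
    zero_mul := fun x => Subtype.ext (show 0 * (f * x.1) = 0 from zero_mul _)
    mul_zero := fun x => Subtype.ext (show x.1 * (f * 0) = 0 by simp) }

/-- the field structure on a root subgroup -/
@[reducible] noncomputable def Fr.field [Finite k] (H : Hyp k) (F : Fr G e f) : Field (JF G e f) :=
  letI := F.ring H
  IsField.toField ⟨⟨1, 0, fun h => F.he.ne (congrArg Subtype.val h)⟩, mul_comm, fun {x} h0 => by
    obtain ⟨y, hy, h1, -⟩ := F.exists_inv H x.2 fun h => h0 (Subtype.ext h)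
    exact ⟨⟨y, hy⟩, Subtype.ext h1⟩⟩

theorem finite_end [Finite k] : Finite (Module.End k M) :=
  haveI : Finite M := Module.finite_of_finite k
  Finite.of_injective _ DFunLike.coe_injective

/-- at most two classes modulo squares -/
theorem Fr.sq_or [Finite k] (H : Hyp k) (F : Fr G e f) {x y : Module.End k M} (hx : x ∈ cls G e) (hy : y ∈ cls G e)
    (hx0 : x ≠ 0) (hy0 : y ≠ 0) : (∃ s ∈ cls G e, s ≠ 0 ∧ x = s * f * s) ∨ (∃ s ∈ cls G e, s ≠ 0 ∧ y = s * f * s) ∨
      ∃ s ∈ cls G e, s ≠ 0 ∧ y = s * (f * x * f) * s := by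
  classical
  letI := F.field H
  haveI := finite_end (k := k) (M := M)
  haveI : Finite (JF G e f) := inferInstanceAs (Finite ↥(cls G e))
  haveI := Fintype.ofFinite (JF G e f)
  let X : JF G e f := ⟨x, hx⟩
  let Y : JF G e f := ⟨y, hy⟩
  have hX : X ≠ 0 := fun h => hx0 (congrArg Subtype.val h)
  have hY : Y ≠ 0 := fun h => hy0 (congrArg Subtype.val h)
  have key : ∀ Z : JF G e f, Z ≠ 0 → IsSquare Z → ∃ s ∈ cls G e, s ≠ 0 ∧ Z.1 = s * f * s := by
    rintro Z hZ ⟨s, rfl⟩
    refine ⟨s.1, s.2, fun h => hZ ?_, (mul_assoc _ _ _).symm⟩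
    rw [show s = 0 from Subtype.ext h, mul_zero]
  by_cases h1 : IsSquare X
  · exact Or.inl (key X hX h1)
  by_cases h2 : IsSquare Y
  · exact Or.inr (Or.inl (key Y hY h2))
  have h3 : IsSquare (X * Y) := by
    rw [← quadraticChar_one_iff_isSquare (mul_ne_zero hX hY), map_mul, quadraticChar_neg_one_iff_not_isSquare.2 h1,
      quadraticChar_neg_one_iff_not_isSquare.2 h2]
    norm_num
  obtain ⟨s, hs⟩ := h3
  have hs0 : s ≠ 0 := by
    rintro rfl
    exact mul_ne_zero hX hY (by rw [hs, mul_zero])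
  refine Or.inr (Or.inr ⟨(s / X).1, (s / X).2, fun h => div_ne_zero hs0 hX (Subtype.ext h), ?_⟩)
  have : Y = s / X * (X * (s / X)) := by
    field_simp
    rw [sq, ← hs, mul_comm]
  have h4 := congrArg Subtype.val this
  simp only [mul_assoc]
  exact h4

/-- every element is a `p`-th power -/
theorem Fr.exists_pow [Finite k] {p : ℕ} [hp : Fact p.Prime] [CharP k p] (H : Hyp k) (F : Fr G e f)
    {x : Module.End k M} (hx : x ∈ cls G e) : ∃ s ∈ cls G e, x * f = (s * f) ^ p := by
  letI := F.field H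
  haveI := finite_end (k := k) (M := M)
  haveI : Finite (JF G e f) := inferInstanceAs (Finite ↥(cls G e))
  haveI : CharP (JF G e f) p := by
    refine (CharP.charP_iff_prime_eq_zero hp.out).2 ?_
    rw [← nsmul_one]
    refine Subtype.ext ?_
    change p • e = 0
    rw [← Nat.cast_smul_eq_nsmul k, CharP.cast_eq_zero, zero_smul]
  obtain ⟨s, hs⟩ := surjective_frobenius (JF G e f) p ⟨x, hx⟩
  refine ⟨s.1, s.2, ?_⟩
  have key : ∀ n : ℕ, (s ^ (n + 1)).1 * f = (s.1 * f) ^ (n + 1) := by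
    intro n
    induction n with
    | zero => simp
    | succ n ih =>
      rw [pow_succ' (s.1 * f), ← ih, pow_succ' s]
      change s.1 * (f * (s ^ (n + 1)).1) * f = _
      simp only [mul_assoc]
  have := key (p - 1)
  rw [Nat.sub_add_cancel hp.out.one_le] at this
  rw [← this]
  exact congrArg (fun z : JF G e f => z.1 * f) hs.symm

/-- the element `n(x)⁻¹ n(e)⁻¹` acts on the class of `e` as multiplication by a square -/
theorem Fr.n_cj (F : Fr G e f) {w : Module.End k M} (hw : w ∈ cls G f) : cj F.p.n w = -(e * w * e) := by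
  have h1 := F.symm.efx hw
  have h2 := F.symm.xfe hw
  have h1' := F.symm.efx' hw
  have h2' := F.symm.xfe' hw
  have h3 : f * w = 0 := cls_mul F.symm.self_mem hw
  have h4 : w * f = 0 := cls_mul hw F.symm.self_mem
  have h3' := cls_mul' F.symm.self_mem hw
  have h4' := cls_mul' hw F.symm.self_mem
  simp only [cj_apply, Pair.n, mul_inv_rev, inv_inv, Units.val_mul, ex_val, ex_inv_val, add_mul, mul_add, sub_mul,
    mul_sub, one_mul, mul_one, mul_assoc, F.p.ee, F.p.ee', h1, h2, h1', h2', h3, h4, h3', h4', mul_zero, zero_mul]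
  abel

theorem Fr.n_cj' (F : Fr G e f) {w : Module.End k M} (hw : w ∈ cls G e) : cj F.p.n w = -(f * w * f) := by
  have h1 := F.efx hw
  have h2 := F.xfe hw
  have h1' := F.efx' hw
  have h2' := F.xfe' hw
  have h3 : e * w = 0 := cls_mul F.self_mem hw
  have h4 : w * e = 0 := cls_mul hw F.self_mem
  have h3' := cls_mul' F.self_mem hw
  have h4' := cls_mul' hw F.self_mem
  simp only [cj_apply, Pair.n, mul_inv_rev, inv_inv, Units.val_mul, ex_val, ex_inv_val, add_mul, mul_add, sub_mul,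
    mul_sub, one_mul, mul_one, mul_assoc, F.p.ee, F.p.ee', h1, h2, h1', h2', h3, h4, h3', h4', mul_zero, zero_mul]
  abel

theorem Fr.n_mem (F : Fr G e f) : F.p.n ∈ clsGrp G e ⊔ clsGrp G f :=
  F.p.n_mem (Subgroup.mem_sup_left (ex_mem_clsGrp F.self_mem)) (Subgroup.mem_sup_right (ex_mem_clsGrp F.symm.self_mem))

theorem Fr.n_mem' (F : Fr G e f) : F.p.n ∈ G := F.p.n_mem F.he.q0.ex_mem F.hf.q0.ex_mem

theorem Fr.conjBy_n (F : Fr G e f) : conjBy (clsGrp G e) F.p.n = clsGrp G f := by
  rw [conjBy_clsGrp' e (Subgroup.le_normalizer F.n_mem'), F.n_cj' F.self_mem, F.p.fef, clsGrp_congr (cls_neg f)]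

theorem Fr.conjBy_n' (F : Fr G e f) : conjBy (clsGrp G f) F.p.n = clsGrp G e := by
  rw [conjBy_clsGrp' f (Subgroup.le_normalizer F.n_mem'), F.n_cj F.symm.self_mem, F.p.efe, clsGrp_congr (cls_neg e)]

/-- squares are induced by the diagonal subgroup -/
theorem Fr.exists_diag (H : Hyp k) (F : Fr G e f) {s : Module.End k M} (hs : s ∈ cls G e) (h0 : s ≠ 0) :
    ∃ h ∈ clsGrp G e ⊔ clsGrp G f, conjBy (clsGrp G e) h = clsGrp G e ∧ conjBy (clsGrp G f) h = clsGrp G f ∧
      ∀ x ∈ cls G e, cj h x = s * (f * x * f) * s := by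
  obtain ⟨g, hg, F'⟩ := F.exists_partner H hs h0
  have e1 := F.he.clsGrp_eq hs h0
  have e2 := F.hf.clsGrp_eq hg F'.hf.ne
  refine ⟨F'.p.n * F.p.n, Subgroup.mul_mem _ (e1 ▸ e2 ▸ F'.n_mem) F.n_mem, ?_, ?_, fun x hx => ?_⟩
  · rw [conjBy_mul, F.conjBy_n, ← e2, F'.conjBy_n', e1]
  · rw [conjBy_mul, F.conjBy_n', ← e1, F'.conjBy_n, e2]
  · rw [cj_mul, F.n_cj' hx, map_neg, F'.n_cj, neg_neg]
    rw [F.hf.cls_eq hg F'.hf.ne]
    exact F.symm.jordan H F.symm.self_mem hx

end CL.QAct
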