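/-
Quadratic pairs under operators, part 3: a coprime operator group fixes an `sl₂`-pair in every invariant component;
its fixed points involve `PSL₂(p)`.
-/
import Cfsg.Agent.QAct.Field
import Cfsg.Agent.Loc.Involves2

set_option autoImplicit false
set_option linter.all false

namespace CL.QAct

open Module LinearMap Cfsg CL.Chev CL.Chev.Quad
open scoped commutatorElement MatrixGroups

section grp
variable {Γ : Type*} [Group Γ]

/-- diagonal lifting of fixed points -/
theorem exists_diag_lift [Finite Γ] {A K G : Subgroup Γ} (hAG : A ≤ Subgroup.normalizer (G : Set Γ)) (hKG : K ≤ G)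
    (hA : ∀ a ∈ A, conjBy K a = K ∨ ⁅conjBy K a, K⁆ = ⊥) {c : Γ} (hc : c ∈ K)
    (hcA : ∀ a ∈ A, conjBy K a = K → a * c * a⁻¹ = c) :
    ∃ d ∈ G ⊓ Subgroup.centralizer (A : Set Γ), c⁻¹ * d ∈ G ⊓ Subgroup.centralizer (K : Set Γ) := by
  classical
  let O : Finset Γ := (Set.toFinite {x | ∃ a ∈ A, a * c * a⁻¹ = x}).toFinset
  have hO : ∀ x, x ∈ O ↔ ∃ a ∈ A, a * c * a⁻¹ = x := fun x => by simp [O]
  have key : ∀ a ∈ A, a * c * a⁻¹ ≠ c → a * c * a⁻¹ ∈ Subgroup.centralizer (K : Set Γ) := by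
    intro a ha hne
    rcases hA a ha with h | h
    · exact absurd (hcA a ha h) hne
    · exact fun y hy => (Root.comm_bot_iff.1 h _ (Root.conj_mem_conjBy hc a) y hy).symm
  have hcomm : (O : Set Γ).Pairwise (Function.onFun Commute fun x => x) := by
    intro x hx y hy hne
    obtain ⟨a, ha, rfl⟩ := (hO x).1 hx
    obtain ⟨b, hb, rfl⟩ := (hO y).1 hy
    have h1 := key (b⁻¹ * a) (A.mul_mem (A.inv_mem hb) ha) (fun h => hne (by
      rw [← h]; conv_lhs => rw [show b⁻¹ * a * c * (b⁻¹ * a)⁻¹ = c from h]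
      rw [← h]; group)) c hc
    change a * c * a⁻¹ * (b * c * b⁻¹) = b * c * b⁻¹ * (a * c * a⁻¹)
    calc a * c * a⁻¹ * (b * c * b⁻¹) = b * ((b⁻¹ * a * c * (b⁻¹ * a)⁻¹) * c) * b⁻¹ := by group
      _ = _ := by rw [← h1]; group
  have hG : ∀ x ∈ O, x ∈ G := fun x hx => by
    obtain ⟨a, ha, rfl⟩ := (hO x).1 hx
    exact (Subgroup.mem_normalizer_iff.1 (hAG ha) c).1 (hKG hc)
  have hcO : c ∈ O := (hO c).2 ⟨1, A.one_mem, by simp⟩
  refine ⟨O.noncommProd (fun x => x) hcomm, ⟨Subgroup.noncommProd_mem _ _ hG, fun a ha => ?_⟩, ?_⟩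
  · have h1 := Finset.map_noncommProd O (fun x => x) hcomm (MulAut.conj a).toMonoidHom
    have h2 : O.val.map (fun x => (MulAut.conj a).toMonoidHom x) = O.val.map fun x => x := by
      have : O.map (MulAut.conj a).toEquiv.toEmbedding = O := by
        refine Finset.eq_of_subset_of_card_le (fun x hx => ?_) (by rw [Finset.card_map])
        obtain ⟨y, hy, rfl⟩ := Finset.mem_map.1 hx
        obtain ⟨b, hb, rfl⟩ := (hO y).1 hy
        exact (hO _).2 ⟨a * b, A.mul_mem ha hb, by simp [mul_assoc]⟩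
      rw [Multiset.map_id']
      exact congrArg Finset.val this
    have h3 : ∀ {s t : Multiset Γ} (e : s = t) (h1 : {x | x ∈ s}.Pairwise Commute) (h2 : {x | x ∈ t}.Pairwise Commute),
        s.noncommProd h1 = t.noncommProd h2 := by
      rintro s _ rfl _ _; rfl
    have h4 : (MulAut.conj a).toMonoidHom (O.noncommProd (fun x => x) hcomm) = O.noncommProd (fun x => x) hcomm :=
      h1.trans (h3 h2 _ _)
    change a * _ * a⁻¹ = _ at h4
    rw [mul_inv_eq_iff_eq_mul] at h4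
    exact h4
  · rw [← Finset.mul_noncommProd_erase O hcO, inv_mul_cancel_left]
    refine Subgroup.noncommProd_mem _ _ fun x hx => ⟨hG x (Finset.mem_of_mem_erase hx), ?_⟩
    obtain ⟨a, ha, rfl⟩ := (hO x).1 (Finset.mem_of_mem_erase hx)
    exact key a ha (Finset.ne_of_mem_erase hx)

theorem involves_of_ker_le {R C X : Type*} [Group R] [Group C] [Group X] (f : R →* C) (g : R →* X)
    (hg : Function.Surjective g) (h : f.ker ≤ g.ker) : Involves X C := by
  have hf := f.rangeRestrict_surjective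
  have hk : f.rangeRestrict.ker ≤ g.ker := by rwa [MonoidHom.ker_rangeRestrict]
  refine CL.Loc.involves_iff.2 ⟨_, f.rangeRestrict.liftOfSurjective hf ⟨g, hk⟩, fun y => ?_⟩
  obtain ⟨x, rfl⟩ := hg y
  exact ⟨f.rangeRestrict x, f.rangeRestrict.liftOfRightInverse_comp_apply _ _ ⟨g, hk⟩ x⟩

theorem involves_of_cover {L : Type*} [Group L] (φ : L →* Γ) (hφ : Function.Injective φ) {C : Subgroup Γ}
    (h : ∀ x, ∃ d ∈ C, (φ x)⁻¹ * d ∈ Subgroup.centralizer (φ.range : Set Γ)) : Involves (L ⧸ Subgroup.center L) C := by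
  let R : Subgroup (C × L) :=
    { carrier := {y | ∀ x, (y.1 : Γ) * φ x * (y.1 : Γ)⁻¹ = φ (y.2 * x * y.2⁻¹)}
      one_mem' := by simp
      mul_mem' := by
        intro y z hy hz x
        have := hy (z.2 * x * z.2⁻¹)
        rw [← hz x] at this
        simp only [Prod.fst_mul, Prod.snd_mul, Subgroup.coe_mul, mul_inv_rev]
        simpa only [mul_assoc] using this
      inv_mem' := by
        intro y hy x
        have := hy (y.2⁻¹ * x * y.2)
        simp only [Prod.fst_inv, Prod.snd_inv, Subgroup.coe_inv, inv_inv]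
        rw [show y.2 * (y.2⁻¹ * x * y.2) * y.2⁻¹ = x by group] at this
        rw [← this]; group }
  refine involves_of_ker_le ((MonoidHom.fst _ _).comp R.subtype)
    ((QuotientGroup.mk' _).comp ((MonoidHom.snd _ _).comp R.subtype)) (fun q => ?_) fun y hy => ?_
  · obtain ⟨x, rfl⟩ := QuotientGroup.mk'_surjective _ q
    obtain ⟨d, hd, hc⟩ := h x
    refine ⟨⟨(⟨d, hd⟩, x), fun w => ?_⟩, rfl⟩
    have := hc (φ w) ⟨w, rfl⟩
    simp only [map_mul, map_inv]
    calc d * φ w * d⁻¹ = φ x * ((φ x)⁻¹ * d * φ w) * d⁻¹ := by group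
      _ = _ := by rw [← this]; group
  · have h1 : (y.1.1 : Γ) = 1 := congrArg Subtype.val hy
    refine (QuotientGroup.eq_one_iff _).2 (Subgroup.mem_center_iff.2 fun w => ?_)
    have := y.2 w
    rw [h1, one_mul, inv_one, mul_one] at this
    have h2 := hφ this
    change w * y.1.2 = y.1.2 * w
    conv_lhs => rw [h2]
    group

theorem solv_mono {A A' G G' : Subgroup Γ} (hs : Group.IsSolvable A ∨ Group.IsSolvable G) (hA : A' ≤ A) (hG : G' ≤ G) :
    Group.IsSolvable A' ∨ Group.IsSolvable G' :=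
  hs.imp (fun h => by haveI := h; exact Group.isSolvable_of_isSolvable_injective (Subgroup.inclusion_injective hA))
    fun h => by haveI := h; exact Group.isSolvable_of_isSolvable_injective (Subgroup.inclusion_injective hG)

theorem cop_mono {A A' G G' : Subgroup Γ} (hc : (Nat.card A).Coprime (Nat.card G)) (hA : A' ≤ A) (hG : G' ≤ G) :
    (Nat.card A').Coprime (Nat.card G') :=
  (hc.coprime_dvd_left (Subgroup.card_dvd_of_le hA)).coprime_dvd_right (Subgroup.card_dvd_of_le hG)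

end grp

variable {k : Type*} [Field k] [Finite k] {M : Type*} [AddCommGroup M] [Module k M] [FiniteDimensional k M]

local notation "GLM" => LinearMap.GeneralLinearGroup k M
local notation "Σ₀" => quadraticRootSubgroups

variable {G A : Subgroup (LinearMap.GeneralLinearGroup k M)} {p : ℕ} [hp : Fact p.Prime] [CharP k p]

theorem finite_gl : Finite GLM :=
  haveI := finite_end (k := k) (M := M)
  inferInstance

/-- The standing hypotheses on the operator group. -/
structure Op (G A : Subgroup GLM) : Prop where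
  norm : A ≤ Subgroup.normalizer (G : Set GLM)
  cop : (Nat.card A).Coprime (Nat.card G)
  solv : Group.IsSolvable A ∨ Group.IsSolvable G

theorem Op.mono (h : Op G A) {G' A' : Subgroup GLM} (hA : A' ≤ A) (hG : G' ≤ G)
    (hn : A' ≤ Subgroup.normalizer (G' : Set GLM)) : Op G' A' := ⟨hn, cop_mono h.cop hA hG, solv_mono h.solv hA hG⟩

theorem Op.exists_fixed_class (H : Hyp k) (hG : NoUnip G) (h : Op G A) {E : Subgroup GLM} (hE : E ∈ Σ₀ G)
    (hK : A ≤ Subgroup.normalizer (compGrp G E : Set GLM)) :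
    ∃ a, Min G a ∧ clsGrp G a ∈ comp G E ∧ ∀ α ∈ A, conjBy (clsGrp G a) α = clsGrp G a := by
  haveI := finite_gl (k := k) (M := M)
  have h' := h.mono le_rfl (compGrp_le E) hK
  obtain ⟨x, hx, hfix⟩ := exists_conjBy_fixed hK h'.cop h'.solv E fun α hα =>
    exists_conjBy_of_mem_comp H hG (conjBy_mem_comp_of_norm H hG hE (h.norm hα) (hK hα) (self_mem_comp hE))
  have h1 := conjBy_mem_comp (compGrp_le_root0 hx) E (self_mem_comp hE)
  obtain ⟨a, ha, e⟩ := mem_quadraticRootSubgroups.1 h1.1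
  exact ⟨a, ha, e ▸ h1, e ▸ hfix⟩

include hp in
theorem Op.exists_fixed_opp (H : Hyp k) (hG : NoUnip G) (h : Op G A) {a : Module.End k M} (ha : Min G a)
    (hfix : ∀ α ∈ A, conjBy (clsGrp G a) α = clsGrp G a) :
    ∃ b, Min G b ∧ Opp a b ∧ ∀ α ∈ A, conjBy (clsGrp G b) α = clsGrp G b := by
  haveI := finite_gl (k := k) (M := M)
  obtain ⟨b, hb, hab⟩ := exists_opp H hG ha
  have hn : A ≤ Subgroup.normalizer (core G a : Set GLM) := fun α hα =>
    mem_normalizer_core ha (h.norm hα) (hfix α hα)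
  have h' := h.mono le_rfl (core_le a) hn
  have hopp : ∀ g ∈ Subgroup.normalizer (G : Set GLM), conjBy (clsGrp G a) g = clsGrp G a → Opp a (cj g b) := by
    intro g hg e
    have h1 := cj_mem_cls_of_conjBy hg e (self_mem_cls ha.q0)
    have h2 := min_cj hb hg
    exact (opp_of_mem_iff ha h2 h1 (min_cj ha hg).ne (self_mem_cls h2.q0) h2.ne).1 (opp_cj hab g)
  obtain ⟨u, hu, hfx⟩ := exists_conjBy_fixed hn h'.cop h'.solv (clsGrp G b) fun α hα => by
    obtain ⟨u, hu, e⟩ := exists_core_conjBy (p := p) H ha hb (min_cj hb (h.norm hα)) hab (hopp α (h.norm hα) (hfix α hα))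
    exact ⟨u, hu, by rw [e, conjBy_clsGrp' b (h.norm hα)]⟩
  have hu' := Subgroup.le_normalizer hu.1
  rw [conjBy_clsGrp' b hu'] at hfx
  refine ⟨_, min_cj hb hu', hopp u hu' (conjBy_eq_of_cj_mem ha hu' ?_), hfx⟩
  rw [cj_core hu (self_mem_cls ha.q0)]
  exact self_mem_cls ha.q0

theorem two_dvd_card (H : Hyp k) {e f : Module.End k M} (F : Fr G e f) : 2 ∣ Nat.card G := by
  haveI := finite_gl (k := k) (M := M)
  have h1 : orderOf (tor F.p (-1)) = 2 := by
    refine orderOf_eq_prime (by rw [← map_pow]; simp) fun h => ?_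
    have := congrArg (fun g : GLM => (g : Module.End k M) * e) h
    simp only [tor_val, add_mul, smul_mul_assoc, mul_assoc, F.p.ee, F.p.efe₀, mul_zero, smul_zero, add_zero,
      Units.val_one, add_eq_left, smul_eq_zero] at this
    rcases this with h | h
    · exact H.two (by simp at h; linear_combination -h)
    · exact F.he.ne h
  rw [← h1]
  exact Subgroup.orderOf_dvd_natCard G (tor_mem F.p F.he.q0 F.hf.q0 _)

theorem Op.exists_fixed_pair (H : Hyp k) (h : Op G A) {a b : Module.End k M} (ha : Min G a) (hb : Min G b)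
    (hab : Opp a b) (hfa : ∀ α ∈ A, conjBy (clsGrp G a) α = clsGrp G a)
    (hfb : ∀ α ∈ A, conjBy (clsGrp G b) α = clsGrp G b) :
    ∃ e ∈ cls G a, ∃ f ∈ cls G b, Fr G e f ∧ ∀ α ∈ A, cj α e = e ∧ cj α f = f := by
  haveI := finite_gl (k := k) (M := M)
  obtain ⟨f₀, hf₀, hf₀0, hp₀⟩ := hab.exists_pair H ha hb
  have F : Fr G a f₀ := ⟨ha, hb.of_mem_cls hf₀ hf₀0, hp₀⟩
  have eb := hb.clsGrp_eq hf₀ hf₀0
  rw [← eb] at hfb
  let N := Subgroup.normalizer (clsGrp G a : Set GLM) ⊓ Subgroup.normalizer (clsGrp G f₀ : Set GLM)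
  have hAN : A ≤ N := fun α hα =>
    ⟨Root.mem_normalizer_iff_conjBy.2 (hfa α hα), Root.mem_normalizer_iff_conjBy.2 (hfb α hα)⟩
  have hn : A ≤ Subgroup.normalizer ((G ⊓ N : Subgroup GLM) : Set GLM) :=
    CL.Grp.le_normalizer_inf' h.norm (hAN.trans Subgroup.le_normalizer)
  have h' := h.mono le_rfl inf_le_left hn
  let S : GLM → Prop := fun α => ∃ x ∈ G ⊓ N, cj α a = cj x a
  have hmul : ∀ α ∈ A, ∀ β, S α → S β → S (α * β) := by
    rintro α hα β ⟨x, hx, ex⟩ ⟨y, hy, ey⟩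
    refine ⟨α * y * α⁻¹ * x, Subgroup.mul_mem _ ((Subgroup.mem_normalizer_iff.1 (hn hα) y).1 hy) hx, ?_⟩
    rw [cj_mul, ey, cj_mul, ← ex, ← cj_mul, ← cj_mul, inv_mul_cancel_right]
  have hdiag : ∀ s ∈ cls G a, s ≠ 0 → ∃ x ∈ G ⊓ N, ∀ y ∈ cls G a, cj x y = s * (f₀ * y * f₀) * s := by
    intro s hs h0
    obtain ⟨x, hx, h1, h2, h3⟩ := F.exists_diag H hs h0
    exact ⟨x, ⟨sup_le (clsGrp_le _) (clsGrp_le _) hx, Root.mem_normalizer_iff_conjBy.2 h1,
      Root.mem_normalizer_iff_conjBy.2 h2⟩, h3⟩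
  have hS : ∀ α ∈ A, S α := by
    intro α hα
    have m1 := cj_mem_cls_of_conjBy (h.norm hα) (hfa α hα) F.self_mem
    have m2 := cj_mem_cls_of_conjBy (h.norm hα) (hfa α hα) m1
    have n1 := (min_cj ha (h.norm hα)).ne
    rcases F.sq_or H m1 m2 n1 (fun h0 => n1 ((cj_eq_zero α).1 h0)) with ⟨s, hs, h0, e⟩ | ⟨s, hs, h0, e⟩ | ⟨s, hs, h0, e⟩
    · obtain ⟨x, hx, ex⟩ := hdiag s hs h0
      exact ⟨x, hx, by rw [ex a F.self_mem, F.p.fef, e]⟩
    · obtain ⟨x, hx, ex⟩ := hdiag s hs h0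
      have h2 : S (α ^ 2) := ⟨x, hx, by rw [ex a F.self_mem, F.p.fef, sq, cj_mul, e]⟩
      have h3 : ∀ n : ℕ, S ((α ^ 2) ^ n) := by
        intro n
        induction n with
        | zero => exact ⟨1, Subgroup.one_mem _, by simp⟩
        | succ n ih => rw [pow_succ']; exact hmul _ (A.pow_mem hα 2) _ h2 ih
      have hodd : (orderOf α).Coprime 2 :=
        (h.cop.coprime_dvd_left (Subgroup.orderOf_dvd_natCard A hα)).coprime_dvd_right (two_dvd_card H F)
      obtain ⟨n, hn⟩ := exists_pow_eq_self_of_coprime hodd.symm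
      exact hn ▸ h3 n
    · obtain ⟨x, hx, ex⟩ := hdiag s hs h0
      refine ⟨α⁻¹ * x * α, ?_, ?_⟩
      · simpa using (Subgroup.mem_normalizer_iff.1 (Subgroup.inv_mem _ (hn hα)) x).1 hx
      · rw [cj_mul, cj_mul, ex _ m1, ← e, cj_inv_cj]
  obtain ⟨x, hx, hfix⟩ := exists_conj_fixed hn h'.cop h'.solv (ex a ha.sq) fun α hα => by
    obtain ⟨x, hx, e⟩ := hS α hα
    exact ⟨x, hx, by rw [← ex_cj α ha.sq (cj_sq ha.sq α), ← ex_cj x ha.sq (cj_sq ha.sq x)]; simp only [e]⟩
  have hx' := Subgroup.le_normalizer hx.1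
  have F' := F.conj hx'
  have me := cj_mem_cls_of_conjBy hx' (Root.mem_normalizer_iff_conjBy.1 hx.2.1) F.self_mem
  have mf := cj_mem_cls_of_conjBy hx' (Root.mem_normalizer_iff_conjBy.1 hx.2.2) F.symm.self_mem
  refine ⟨_, me, _, hb.cls_eq hf₀ hf₀0 ▸ mf, F', fun α hα => ?_⟩
  have e1 : cj α (cj x a) = cj x a := by
    have := congrArg (fun g : GLM => (g : Module.End k M)) (hfix α hα)
    simp only [← cj_coe, ex_val, map_add, map_one, add_right_inj] at this
    exact this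
  refine ⟨e1, ?_⟩
  have m3 := cj_mem_cls_of_conjBy (h.norm hα) (hfb α hα) mf
  have F'' := F'.conj (h.norm hα)
  rw [e1] at F''
  exact pair_unique F'.p F''.p ((F.hf.range_eq_of_mem m3 F''.hf.ne).trans (F.hf.range_eq_of_mem mf F'.hf.ne).symm).le
    ((F.hf.ker_eq_of_mem m3 F''.hf.ne).trans (F.hf.ker_eq_of_mem mf F'.hf.ne).symm).le

theorem Op.comp_dichotomy (H : Hyp k) (hG : NoUnip G) (h : Op G A) (E : Subgroup GLM) :
    ∀ α ∈ A, conjBy (compGrp G E) α = compGrp G E ∨ ⁅conjBy (compGrp G E) α, compGrp G E⁆ = ⊥ := by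
  intro α hα
  rw [conjBy_compGrp' E (h.norm hα)]
  by_cases e : comp G (conjBy E α) = comp G E
  · exact Or.inl (by rw [compGrp, e, compGrp])
  · exact Or.inr (commutator_compGrp e)

theorem exists_min {q : Module.End k M} (hq : Q0 G q) (h0 : q ≠ 0) : ∃ a, Min G a := by
  obtain ⟨a, ha, hmin⟩ := (wellFounded_lt.onFun (f := fun a : Module.End k M => rk a)).has_min
    {a | Q0 G a ∧ a ≠ 0} ⟨q, hq, h0⟩
  exact ⟨a, ha.1, ha.2, fun b hb hb0 => not_lt.1 (hmin b ⟨hb, hb0⟩)⟩

theorem sl2Hom_commute {e f : Module.End k M} (h : Pair e f) {α : GLM} (he : cj α e = e) (hf : cj α f = f)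
    (x : SL(2, k)) : α * sl2Hom h (scal_smul e f) x * α⁻¹ = sl2Hom h (scal_smul e f) x := by
  refine Units.ext ?_
  rw [← cj_coe, sl2Hom_val]
  simp [he, hf]

include hp in
/-- The fixed points of a coprime operator group involve `PSL₂(k)`. -/
theorem Op.involves (H : Hyp k) (hG : NoUnip G) (h : Op G A) {q : Module.End k M} (hq : Q0 G q) (h0 : q ≠ 0) :
    Involves (SL(2, k) ⧸ Subgroup.center SL(2, k)) ↥(G ⊓ Subgroup.centralizer (A : Set GLM)) := by
  haveI := finite_gl (k := k) (M := M)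
  obtain ⟨a₀, ha₀⟩ := exists_min hq h0
  have hE := clsGrp_mem ha₀
  set K := compGrp G (clsGrp G a₀) with hK
  have h' : Op G (A ⊓ Subgroup.normalizer (K : Set GLM)) := h.mono inf_le_left le_rfl (inf_le_left.trans h.norm)
  obtain ⟨a, ha, haK, hfa⟩ := h'.exists_fixed_class H hG hE inf_le_right
  obtain ⟨b, hb, hab, hfb⟩ := h'.exists_fixed_opp (p := p) H hG ha hfa
  obtain ⟨e, he, f, hf, F, hfix⟩ := h'.exists_fixed_pair H ha hb hab hfa hfb
  have hbK := (hab.exists_conjBy H ha hb haK).1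
  have hmem : ∀ x, sl2Hom F.p (scal_smul e f) x ∈ K := sl2Hom_mem F.p
    (fun c => le_biSup_self haK (ex_mem_clsGrp (Submodule.smul_mem _ c he)))
    fun c => le_biSup_self hbK (ex_mem_clsGrp (Submodule.smul_mem _ c hf))
  refine involves_of_cover _ (sl2Hom_injective F.p (scal_smul e f) F.he.ne) fun x => ?_
  obtain ⟨d, hd, hc⟩ := exists_diag_lift h.norm (compGrp_le _) (h.comp_dichotomy H hG _) (hmem x) fun α hα e =>
    sl2Hom_commute F.p (hfix α ⟨hα, Root.mem_normalizer_iff_conjBy.2 e⟩).1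
      (hfix α ⟨hα, Root.mem_normalizer_iff_conjBy.2 e⟩).2 x
  refine ⟨d, hd, Subgroup.centralizer_le ?_ hc.2⟩
  rintro _ ⟨y, rfl⟩
  exact hmem y

end CL.QAct
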