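/-
Quadratic pairs under operators, part 4: passage to abstract groups (chief factors, `p`-stability, `ZJ`).
-/
import Cfsg.Agent.QAct.Fix
import Cfsg.Agent.Chev.QuadPD
import Cfsg.Agent.Loc.Chief
import Cfsg.Agent.Loc.PConstr
import Cfsg.Agent.Grp.ZJ2
import Cfsg.Agent.Grp.Action

set_option autoImplicit false
set_option linter.all false

namespace CL.QAct

open Module LinearMap Cfsg CL.Chev CL.Chev.Quad
open scoped commutatorElement MatrixGroups

universe u

variable {p : ℕ} [hp : Fact p.Prime]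

theorem q0_of_mem {M : Type*} [AddCommGroup M] [Module (ZMod p) M] {G : Subgroup (GeneralLinearGroup (ZMod p) M)}
    {g : GeneralLinearGroup (ZMod p) M} (hg : g ∈ G)
    (h : ((g : End (ZMod p) M) - 1) * ((g : End (ZMod p) M) - 1) = 0) : Q0 G ((g : End (ZMod p) M) - 1) := by
  refine ⟨h, fun c τ hτ => ?_⟩
  obtain ⟨n, rfl⟩ := ZMod.natCast_zmod_surjective c
  have key : ∀ n : ℕ, ((g ^ n : GeneralLinearGroup (ZMod p) M) : End (ZMod p) M) =
      1 + (n : ZMod p) • ((g : End (ZMod p) M) - 1) := by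
    intro n
    induction n with
    | zero => simp
    | succ n ih =>
      rw [pow_succ, Units.val_mul, ih, show (g : End (ZMod p) M) = 1 + ((g : End (ZMod p) M) - 1) by abel]
      generalize (g : End (ZMod p) M) - 1 = x at h
      rw [add_sub_cancel_left, add_mul, mul_add, mul_add, smul_mul_assoc, smul_mul_assoc, h, Nat.cast_succ, add_smul]
      simp only [one_mul, mul_one, smul_zero, add_zero, one_smul]
      abel
  have : τ = g ^ n := Units.ext (by rw [hτ, key])
  exact this ▸ G.pow_mem hg n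

theorem hyp_zmod (h5 : 5 ≤ p) : Hyp (ZMod p) :=
  hyp_of (by rw [ZMod.ringChar_zmod_n]; omega) (by rw [Nat.card_zmod]; omega)

/-- The linear representation attached to an action on an elementary abelian group. -/
def linRep {H V : Type*} [Group H] [CommGroup V] [Module (ZMod p) (Additive V)] (φ : H →* MulAut V) :
    H →* End (ZMod p) (Additive V) where
  toFun h :=
    { toFun := MonoidHom.toAdditive (φ h : V →* V), map_add' := map_add _, map_smul' := ZMod.map_smul _ }
  map_one' := by simp only [map_one]; rfl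
  map_mul' g h := by simp only [map_mul]; rfl

theorem exists_rep' {H : Type*} {V : Type u} [Group H] [CommGroup V] [Finite V] [Nontrivial V] (he : ∀ v : V, v ^ p = 1)
    (φ : H →* MulAut V) (hφ : ∀ W : Subgroup V, (∀ g, ∀ w ∈ W, φ g w ∈ W) → W = ⊥ ∨ W = ⊤) :
    ∃ (M : Type u) (_ : AddCommGroup M) (_ : Module (ZMod p) M) (_ : Finite M)
      (ρ : H →* GeneralLinearGroup (ZMod p) M), IsIrreducibleFor ρ.range ∧ (∀ g, ρ g = 1 → ∀ v, φ g v = v) ∧
      ∀ g, (∀ v, φ g (φ g v * v⁻¹) = φ g v * v⁻¹) →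
        ((ρ g : End (ZMod p) M) - 1) * ((ρ g : End (ZMod p) M) - 1) = 0 := by
  obtain ⟨_⟩ : Nonempty (Module (ZMod p) (Additive V)) :=
    ⟨AddCommGroup.zmodModule fun v => congrArg Additive.ofMul (he v.toMul)⟩
  let ρ₀ := linRep (p := p) φ
  refine ⟨Additive V, inferInstance, inferInstance, inferInstance, ρ₀.toHomUnits, ⟨exists_ne 0, fun W hW => ?_⟩,
    fun g hg v => ?_, fun g hg => LinearMap.ext fun w => ?_⟩
  · refine (hφ (AddSubgroup.toSubgroup' W.toAddSubgroup) fun g w hw => hW _ ⟨g, rfl⟩ (Additive.ofMul w) hw).imp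
      (fun h => eq_bot_iff.2 fun w hw => ?_) fun h => eq_top_iff.2 fun w _ => ?_
    · exact h.le (show w.toMul ∈ AddSubgroup.toSubgroup' W.toAddSubgroup from hw)
    · exact h.ge (Subgroup.mem_top w.toMul)
  · exact DFunLike.congr_fun (congrArg Units.val hg) (Additive.ofMul v)
  · have h1 : ∀ w : Additive V, (ρ₀ g - 1) w = Additive.ofMul (φ g w.toMul * w.toMul⁻¹) := fun w => by
      rw [LinearMap.sub_apply, sub_eq_add_neg]; rfl
    change (ρ₀ g - 1) ((ρ₀ g - 1) w) = 0
    rw [h1, h1, toMul_ofMul, hg, mul_inv_cancel]; rfl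

variable {H : Type u} [Group H] [Finite H]

theorem exists_rep {V : Subgroup H} (hV : CL.Grp.IsMinNormal V) (hVp : IsPGroup p V) :
    ∃ (M : Type u) (_ : AddCommGroup M) (_ : Module (ZMod p) M) (_ : Finite M)
      (ρ : H →* GeneralLinearGroup (ZMod p) M), IsIrreducibleFor ρ.range ∧
      (∀ g, ρ g = 1 → g ∈ Subgroup.centralizer (V : Set H)) ∧
      ∀ g, (∀ v ∈ V, Commute ⁅v, g⁆ g) → ((ρ g : End (ZMod p) M) - 1) * ((ρ g : End (ZMod p) M) - 1) = 0 := by
  haveI := hV.normal
  obtain ⟨hc, he⟩ := hV.isElementaryAbelian_of_isPGroup hVp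
  letI : CommGroup V := { (inferInstance : Group V) with mul_comm := hc.is_comm.comm }
  haveI := (Subgroup.nontrivial_iff_ne_bot V).2 hV.ne_bot
  obtain ⟨M, _, _, _, ρ, h1, h2, h3⟩ := exists_rep' (p := p) (V := V) (fun v => Subtype.ext (he _ v.2))
    (MulAut.conjNormal (G := H)) fun W hW => by
      have hN : (W.map V.subtype).Normal := ⟨by
        rintro _ ⟨v, hv, rfl⟩ g
        exact ⟨_, hW g v hv, rfl⟩⟩
      refine (hV.min _ hN (Subgroup.map_subtype_le _)).imp (fun h => ?_) fun h => ?_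
      · exact (Subgroup.map_eq_bot_iff_of_injective _ V.subtype_injective).1 h
      · exact Subgroup.map_injective V.subtype_injective (by rw [h, ← MonoidHom.range_eq_map, Subgroup.range_subtype])
  refine ⟨M, _, _, ‹_›, ρ, h1, fun g hg v hv => ?_, fun g hg => h3 g fun v => ?_⟩
  · exact (mul_inv_eq_iff_eq_mul.1 (congrArg Subtype.val (h2 g hg ⟨v, hv⟩))).symm
  · rw [mul_comm]
    have h4 := hg _ (V.inv_mem v.2)
    refine Subtype.ext ?_
    change g * ((v : H)⁻¹ * (g * v * g⁻¹)) * g⁻¹ = (v : H)⁻¹ * (g * v * g⁻¹)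
    rw [show (v : H)⁻¹ * (g * v * g⁻¹) = ⁅(v : H)⁻¹, g⁆ by simp only [commutatorElement_def, inv_inv, mul_assoc],
      ← h4.eq, mul_inv_cancel_right]

/-- The standing hypotheses in an abstract group. -/
structure OpG (p : ℕ) {H : Type*} [Group H] (G A : Subgroup H) : Prop where
  norm : A ≤ Subgroup.normalizer (G : Set H)
  cop : (Nat.card A).Coprime (Nat.card G)
  solv : Group.IsSolvable A ∨ Group.IsSolvable G
  free : ¬ Involves (SL(2, ZMod p) ⧸ Subgroup.center SL(2, ZMod p)) ↥(G ⊓ Subgroup.centralizer (A : Set H))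

omit hp in
theorem map_inf_centralizer {H' : Type*} [Group H'] (f : H →* H') {G A : Subgroup H}
    (hn : A ≤ Subgroup.normalizer (G : Set H)) (hc : (Nat.card A).Coprime (Nat.card G))
    (hs : Group.IsSolvable A ∨ Group.IsSolvable G) :
    G.map f ⊓ Subgroup.centralizer (A.map f : Set H') = (G ⊓ Subgroup.centralizer (A : Set H)).map f := by
  apply le_antisymm
  · rintro _ ⟨⟨g, hg, rfl⟩, h⟩
    obtain ⟨c, hc, h1⟩ := CL.Grp.exists_centralizer_mem_coset hn hc hs (N := G ⊓ f.ker) inf_le_left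
      ((le_inf Subgroup.le_normalizer Subgroup.le_normalizer_of_normal).trans Subgroup.inf_normalizer_le_normalizer_inf)
      ((le_inf hn Subgroup.le_normalizer_of_normal).trans Subgroup.inf_normalizer_le_normalizer_inf) hg
      fun a ha => ⟨G.mul_mem ((Subgroup.mem_normalizer_iff.1 (hn ha) g).1 hg) (G.inv_mem hg), by
        change f _ = 1
        rw [map_mul, map_mul, map_mul, h _ ⟨a, ha, rfl⟩]; simp⟩
    refine ⟨c, hc, ?_⟩
    have : f (g⁻¹ * c) = 1 := h1.2
    rw [map_mul, map_inv, inv_mul_eq_one] at this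
    exact this.symm
  · rintro _ ⟨g, hg, rfl⟩
    refine ⟨⟨g, hg.1, rfl⟩, ?_⟩
    rintro _ ⟨a, ha, rfl⟩
    rw [← map_mul, hg.2 a ha, map_mul]

omit hp in
theorem OpG.map {H' : Type*} [Group H'] (f : H →* H') {G A : Subgroup H} (h : OpG p G A) :
    OpG p (G.map f) (A.map f) where
  norm := (Subgroup.map_mono h.norm).trans (Subgroup.le_normalizer_map f)
  cop := (h.cop.coprime_dvd_left (Subgroup.card_map_dvd _ f)).coprime_dvd_right (Subgroup.card_map_dvd _ f)
  solv := h.solv.imp (CL.Grp.isSolvable_map_of_isSolvable · f) (CL.Grp.isSolvable_map_of_isSolvable · f)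
  free := fun h1 => h.free (by
    rw [map_inf_centralizer f h.norm h.cop h.solv] at h1
    exact CL.Loc.involves_trans h1 (CL.Loc.involves_map f _))

theorem OpG.mem_centralizer (h5 : 5 ≤ p) {G A V : Subgroup H} [G.Normal] (h : OpG p G A) (hV : CL.Grp.IsMinNormal V)
    (hVp : IsPGroup p V) {a : H} (ha : a ∈ G) (hq : ∀ v ∈ V, Commute ⁅v, a⁆ a) :
    a ∈ Subgroup.centralizer (V : Set H) := by
  obtain ⟨M, _, _, _, ρ, hirr, hk, hquad⟩ := exists_rep hV hVp
  haveI : FiniteDimensional (ZMod p) M := Module.Finite.of_finite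
  have h' := h.map ρ
  have hG : NoUnip (G.map ρ) := (noUnip_of_irreducible hirr).of_normal (Subgroup.map_le_range _ _) (by
    rintro _ ⟨g, rfl⟩
    refine Root.mem_normalizer_iff_conjBy.1 (Subgroup.le_normalizer_map ρ ⟨g, ?_, rfl⟩)
    exact Subgroup.le_normalizer_of_normal (K := ⊤) trivial)
  by_contra hne
  refine h'.free (Op.involves (p := p) (hyp_zmod h5) hG ⟨h'.norm, h'.cop, h'.solv⟩
    (q0_of_mem ⟨a, ha, rfl⟩ (hquad a hq)) fun e => hne (hk a (Units.ext (sub_eq_zero.1 e))))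

theorem OpG.mem_stabCore (h5 : 5 ≤ p) {G A B : Subgroup H} [G.Normal] [B.Normal] (h : OpG p G A) (hB : IsPGroup p B)
    {a : H} (ha : a ∈ G) (hq : ∀ v ∈ B, Commute ⁅v, a⁆ a) : a ∈ CL.Grp.stabCore p B := by
  refine CL.Grp.le_stabCore (R := CL.Loc.chiefStab B) (fun g hg => CL.Loc.mem_centralizer_of_mem_chiefStab hB hg)
    (CL.Loc.mem_chiefStab.2 fun U V hUV hU => ?_)
  haveI := hUV.2.1
  haveI := hUV.2.2.1
  have hs := QuotientGroup.mk'_surjective V
  haveI : (G.map (QuotientGroup.mk' V)).Normal := Subgroup.Normal.map inferInstance _ hs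
  obtain ⟨h1, -, h2⟩ := CL.Loc.minInv_top_of_chief hUV
  have := (h.map (QuotientGroup.mk' V)).mem_centralizer h5 (V := U.map (QuotientGroup.mk' V))
    ⟨Subgroup.Normal.map inferInstance _ hs, h1, fun K _ hK => h2 K hK Subgroup.le_normalizer_of_normal⟩
    ((hB.to_le hU).map _) ⟨a, ha, rfl⟩ (by
      rintro _ ⟨v, hv, rfl⟩
      rw [← map_commutatorElement]
      exact (hq v (hU hv)).map _)
  rw [Subgroup.commutator_le]
  rintro u hu _ ⟨n, rfl⟩
  rw [← QuotientGroup.eq_one_iff]
  change QuotientGroup.mk' V _ = 1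
  rw [map_commutatorElement, commutatorElement_eq_one_iff_commute, map_zpow]
  exact Commute.zpow_right (this _ ⟨u, hu, rfl⟩) n

omit hp in
theorem mem_of_pow_of_index {G : Subgroup H} [G.Normal] (hi : G.index.Coprime p) {a : H} {n : ℕ} (ha : a ^ p ^ n = 1) :
    a ∈ G := by
  rw [← QuotientGroup.eq_one_iff, ← orderOf_eq_one_iff]
  refine Nat.eq_one_of_dvd_coprimes (hi.pow_right n) (orderOf_dvd_natCard _) (orderOf_dvd_of_pow_eq_one ?_)
  rw [← QuotientGroup.mk_pow, ha, QuotientGroup.mk_one]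

theorem isPConstrained_of_index {G : Subgroup H} [G.Normal] (hi : G.index.Coprime p) (h : IsPConstrained p G) :
    IsPConstrained p H := by
  let f := QuotientGroup.mk' (pPrimeCore p H)
  have hs : Function.Surjective f := QuotientGroup.mk'_surjective _
  have h0 := CL.Grp.pPrimeCore_quotient_pPrimeCore p H
  haveI : (G.map f).Normal := Subgroup.Normal.map inferInstance f hs
  rw [CL.Loc.isPConstrained_subgroup_iff_map f (by rw [QuotientGroup.ker_mk']; exact CL.Grp.pPrimeCore_coprime p H),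
    CL.Loc.isPConstrained_iff_of_pPrimeCore_eq_bot
      (CL.Grp.pPrimeCore_eq_bot_of_isSubnormal (Subgroup.Normal.isSubnormal inferInstance) h0)] at h
  refine CL.Loc.isPConstrained_iff.2 (CL.Loc.centralizer_pCore_le_of_isPSolvable_centralizer h0
    (CL.Loc.isPSolvable_of_ker ((QuotientGroup.mk' (G.map f)).comp (Subgroup.subtype _))
      (CL.Loc.isPSolvable_of_isPGroup fun x => ?_)
      (CL.Loc.isPSolvable_of_coprime (hi.coprime_dvd_left (G.index_map_dvd hs)))))
  have hx : x.1.1 ∈ G.map f := (QuotientGroup.eq_one_iff _).1 x.2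
  have hx' : (⟨x.1.1, hx⟩ : G.map f) ∈ pCore p (G.map f) := h fun y hy =>
    Subtype.ext (x.1.2 _ (CL.Grp.pCoreOf_le_pCore_of_normal _ ⟨y, hy, rfl⟩))
  obtain ⟨n, hn⟩ := CL.Grp.pCore_isPGroup p _ ⟨_, hx'⟩
  exact ⟨n, Subtype.ext (Subtype.ext (congrArg (fun y => y.1.1) hn))⟩

theorem OpG.zj (h5 : 5 ≤ p) {G A : Subgroup H} [G.Normal] (h : OpG p G A) (hi : G.index.Coprime p)
    (hc : IsPConstrained p G) (P : Sylow p H) :
    ((centerThompsonOf 0 (P : Subgroup H)).map (QuotientGroup.mk' (pPrimeCore p H))).Normal := by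
  have hs := QuotientGroup.mk'_surjective (pPrimeCore p H)
  haveI : (G.map (QuotientGroup.mk' (pPrimeCore p H))).Normal := Subgroup.Normal.map inferInstance _ hs
  exact CL.Grp.zj_map_normal_of_stable (by omega) (Or.inr rfl) (isPConstrained_of_index hi hc) (fun B _ hB =>
    CL.Grp.isPStableOn_of_pElt hB fun a k ha hq => (h.map _).mem_stabCore h5 hB
      (mem_of_pow_of_index (hi.coprime_dvd_left (G.index_map_dvd hs)) ha) hq) P

end CL.QAct
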