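/-
Quadratic pairs under operators, part 5: an invariant `p`-subgroup with quadratic elements can be replaced by an
invariant `p`-subgroup containing a root element.
-/
import Cfsg.Agent.QAct.Chief

set_option autoImplicit false
set_option linter.all false

namespace CL.QAct

open Module LinearMap Cfsg CL.Chev CL.Chev.Quad
open scoped commutatorElement MatrixGroups

variable {k : Type*} [Field k] {M : Type*} [AddCommGroup M] [Module k M]

local notation "GLM" => LinearMap.GeneralLinearGroup k M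

variable {p : ℕ} [hp : Fact p.Prime] [CharP k p] {G P : Subgroup (LinearMap.GeneralLinearGroup k M)}

theorem sub_one_pow_char (g : End k M) (n : ℕ) : (g - 1) ^ p ^ n = g ^ p ^ n - 1 := by
  rcases subsingleton_or_nontrivial (End k M) with h | h
  · exact Subsingleton.elim _ _
  haveI : CharP (End k M) p := charP_of_injective_algebraMap (algebraMap k _).injective p
  rw [sub_pow_char_pow_of_commute _ _ (Commute.one_right _), one_pow]

theorem pow_eq_one_of_nilp {g : GLM} {n : ℕ} (h : ((g : End k M) - 1) ^ n = 0) : g ^ p ^ n = 1 := by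
  refine Units.ext ?_
  have := sub_one_pow_char (p := p) (g : End k M) n
  rw [pow_eq_zero_of_le (Nat.lt_pow_self hp.out.one_lt).le h] at this
  exact (sub_eq_zero.1 this.symm)

theorem isUnipotentOn_of_isPGroup [Finite GLM] (hP : IsPGroup p P) : IsUnipotentOn P := by
  obtain ⟨Q, ⟨hQP, hQ⟩, hmax⟩ := (wellFounded_gt (α := Subgroup GLM)).has_min {Q | Q ≤ P ∧ IsUnipotentOn Q}
    ⟨⊥, bot_le, isUnipotentOn_bot⟩
  by_contra hne
  obtain ⟨x, ⟨hx, hxn⟩, hxQ⟩ := SetLike.exists_of_lt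
    (CL.Grp.lt_inf_normalizer_of_isPGroup hP (lt_of_le_of_ne hQP fun e => hne (e ▸ hQ)))
  obtain ⟨n, hn⟩ := hP ⟨x, hx⟩
  have hz : IsUnipotentOn (Subgroup.zpowers x) := by
    refine isUnipotentOn_def.2 ⟨p ^ n, fun l hl hlen => ?_⟩
    have key : ∀ l : List GLM, (∀ g ∈ l, g ∈ Subgroup.zpowers x) →
        ∃ z, (l.map fun g : GLM => (g : End k M) - 1).prod = ((x : End k M) - 1) ^ l.length * z := by
      intro l
      induction l with
      | nil => exact fun _ => ⟨1, by simp⟩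
      | cons g l ih =>
        intro hl
        obtain ⟨z, hz⟩ := ih fun y hy => hl y (by simp [hy])
        obtain ⟨m, rfl⟩ := (isOfFinOrder_of_finite x).mem_powers_iff_mem_zpowers.2 (hl g (by simp))
        have hc : Commute (∑ i ∈ Finset.range m, (x : End k M) ^ i) (((x : End k M) - 1) ^ l.length) :=
          Commute.sum_left _ _ _ fun i _ => ((Commute.refl _).sub_right (Commute.one_right _)).pow_pow _ _
        refine ⟨(∑ i ∈ Finset.range m, (x : End k M) ^ i) * z, ?_⟩
        rw [List.map_cons, List.prod_cons, hz, List.length_cons, Units.val_pow_eq_pow_val, ← mul_geom_sum, pow_succ',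
          mul_assoc, mul_assoc, ← mul_assoc _ _ z, hc.eq, mul_assoc]
    obtain ⟨z, hz⟩ := key l hl
    have h1 : (x : End k M) ^ p ^ n = 1 := congrArg (fun g : P => ((g : GLM) : End k M)) hn
    rw [hz, hlen, sub_one_pow_char, h1, sub_self, zero_mul]
  refine hmax _ ⟨sup_le hQP (Subgroup.zpowers_le.2 hx), IsUnipotentOn.sup_of_normalizes hQ hz fun g hg h hh => ?_⟩
    (lt_of_le_of_ne le_sup_left fun e => hxQ (e ▸ Subgroup.mem_sup_right (Subgroup.mem_zpowers x)))
  exact (Subgroup.mem_normalizer_iff.1 (Subgroup.zpowers_le.2 hxn hg) h).1 hh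

omit hp [CharP k p] in
theorem exists_deep_aux {I : Submodule k (End k M)} {N : ℕ} (hI : I ^ N = ⊥) {S : Set (End k M)} {Q : End k M → Prop}
    (h0 : (0 : End k M) ∉ S) (hS : S.Nonempty)
    (h : ∀ b ∈ S, Q b ∨ ∃ b' ∈ S, b' ∈ I * (k ∙ b) ⊔ (k ∙ b) * I ⊔ I * (k ∙ b) * I) : ∃ b ∈ S, Q b := by
  let T : ℕ → Submodule k (End k M) := fun j => Nat.rec ⊤ (fun _ X => I * X ⊔ X * I ⊔ I * X * I) j
  have hT : ∀ j i l, 2 * N ≤ i + j + l → I ^ i * T j * I ^ l = ⊥ := by
    intro j
    induction j with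
    | zero =>
      intro i l hil
      rcases le_total N i with h | h
      · rw [pow_eq_zero_of_le h hI]; simp
      · rw [pow_eq_zero_of_le (show N ≤ l by omega) hI]; simp
    | succ j ih =>
      intro i l hil
      have h1 := ih (i + 1) l (by omega)
      have h2 := ih i (l + 1) (by omega)
      have h3 := ih (i + 1) (l + 1) (by omega)
      change I ^ i * (I * T j ⊔ T j * I ⊔ I * T j * I) * I ^ l = ⊥
      simp only [pow_succ' I l, pow_succ I i, Submodule.mul_sup, Submodule.sup_mul, mul_assoc] at h1 h2 h3 ⊢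
      rw [h1, h2, h3]; simp
  by_contra hne
  have key : ∀ j, ∃ b ∈ S, b ∈ T j := by
    intro j
    induction j with
    | zero => exact hS.imp fun b hb => ⟨hb, trivial⟩
    | succ j ih =>
      obtain ⟨b, hb, hbT⟩ := ih
      obtain ⟨b', hb', h'⟩ := (h b hb).resolve_left fun hq => hne ⟨b, hb, hq⟩
      have hle : (k ∙ b) ≤ T j := (Submodule.span_singleton_le_iff_mem _ _).2 hbT
      exact ⟨b', hb', sup_le_sup (sup_le_sup (mul_le_mul' le_rfl hle) (mul_le_mul' hle le_rfl))
        (mul_le_mul' (mul_le_mul' le_rfl hle) le_rfl) h'⟩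
  obtain ⟨b, hb, hbT⟩ := key (2 * N)
  have := hT (2 * N) 0 0 (by omega)
  rw [pow_zero, one_mul, mul_one] at this
  exact h0 ((Submodule.mem_bot k).1 (this ▸ hbT) ▸ hb)

omit hp [CharP k p] in
theorem mem_of_two_smul (h2 : (2 : k) ≠ 0) {W : Submodule k (End k M)} {x : End k M} (h : x + x ∈ W) : x ∈ W := by
  rw [← two_smul k] at h
  exact (W.smul_mem_iff h2).1 h

omit hp [CharP k p] in
/-- A deepest minimal element commutes with the nilpotent set. -/
theorem exists_deep [FiniteDimensional k M] (h2 : (2 : k) ≠ 0) {S : Set (End k M)} (hS : ∀ x ∈ S, Q0 G x) {N : ℕ}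
    (hI : Submodule.span k S ^ N = ⊥) (W : Submodule k (End k M))
    (hW : ∀ x ∈ S, ∀ b ∈ W, (1 + x) * b * (1 - x) ∈ W ∧ (1 - x) * b * (1 + x) ∈ W)
    (hz : ∀ x ∈ S, ∀ b ∈ W, Min G b → b * x * b = 0) {b₀ : End k M} (hb₀ : b₀ ∈ W) (hm : Min G b₀) :
    ∃ b ∈ W, Min G b ∧ ∀ x ∈ S, x * b = b * x := by
  obtain ⟨b, hb, h⟩ := exists_deep_aux hI (S := {b | b ∈ W ∧ Min G b}) (Q := fun b => ∀ x ∈ S, x * b = b * x)
    (fun h => h.2.ne rfl) ⟨b₀, hb₀, hm⟩ (by
      rintro b ⟨hbW, hb⟩
      refine or_iff_not_imp_left.2 fun h => ?_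
      push Not at h
      obtain ⟨x, hx, hne⟩ := h
      have hq := hS x hx
      have mx : x ∈ Submodule.span k S := Submodule.subset_span hx
      have mb : b ∈ k ∙ b := Submodule.mem_span_singleton_self b
      have h1 := hz x hx b hbW hb
      have h1' : ∀ y, b * (x * (b * y)) = 0 := fun y => by rw [← mul_assoc, ← mul_assoc, h1, zero_mul]
      have h1'' : b * (x * b) = 0 := by rw [← mul_assoc, h1]
      obtain ⟨w1, w2⟩ := hW x hx b hbW
      by_cases h3 : x * b * x = 0
      · refine ⟨b * x - x * b, ⟨mem_of_two_smul h2 ?_, (class_two hb hq h1 h3 (sub_ne_zero.2 (Ne.symm hne))).1⟩,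
          Submodule.mem_sup_left (Submodule.sub_mem _ (Submodule.mem_sup_right (Submodule.mul_mem_mul mb mx))
            (Submodule.mem_sup_left (Submodule.mul_mem_mul mx mb)))⟩
        convert W.sub_mem w2 w1 using 1
        noncomm_ring
      · refine ⟨x * b * x, ⟨mem_of_two_smul h2 ?_, hb.of_rk_le ?_ h3
          ((rk_mul_le_left _ _).trans (rk_mul_le_right _ _))⟩,
          Submodule.mem_sup_right (Submodule.mul_mem_mul (Submodule.mul_mem_mul mx mb) mx)⟩
        · convert W.sub_mem (W.add_mem hbW hbW) (W.add_mem w1 w2) using 1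
          noncomm_ring
        have q1 := hb.q0.conj_ex hq
        have q2 := hb.q0.conj_ex hq.neg
        have q3 := ((hb.q0.smul 2).sub (q1.add q2 ?_ ?_) ?_ ?_).smul (2 : k)⁻¹
        · convert q3 using 1
          rw [eq_inv_smul_iff₀ h2, two_smul, two_smul]
          noncomm_ring
        all_goals
          simp only [two_smul, add_mul, mul_add, sub_mul, mul_sub, one_mul, mul_one, mul_assoc, neg_mul, mul_neg, hb.sq,
            hb.q0.sq', hq.sq, hq.sq', h1', h1'', mul_zero, zero_mul]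
          abel)
  exact ⟨b, hb.1, hb.2, h⟩

/-- The flag defined by a set of endomorphisms. -/
def flag (S : Set (End k M)) : ℕ → Submodule k M
  | 0 => ⊤
  | j + 1 => ⨆ s ∈ S, (flag S j).map s

omit hp [CharP k p] in
theorem flag_succ_le {S : Set (End k M)} {j : ℕ} {W : Submodule k M} :
    flag S (j + 1) ≤ W ↔ ∀ s ∈ S, ∀ m ∈ flag S j, s m ∈ W := by
  simp only [flag, iSup_le_iff, Submodule.map_le_iff_le_comap]; rfl

omit hp [CharP k p] in
theorem mem_flag_succ {S : Set (End k M)} {j : ℕ} {s : End k M} (hs : s ∈ S) {m : M} (hm : m ∈ flag S j) :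
    s m ∈ flag S (j + 1) := flag_succ_le.1 le_rfl s hs m hm

omit hp [CharP k p] in
theorem flag_anti (S : Set (End k M)) (j : ℕ) : flag S (j + 1) ≤ flag S j := by
  induction j with
  | zero => exact le_top
  | succ j ih => exact flag_succ_le.2 fun s hs m hm => mem_flag_succ hs (ih hm)

omit hp [CharP k p] in
theorem flag_le_ker {S : Set (End k M)} (j : ℕ) : ∀ i, Submodule.span k S ^ (j + i) = ⊥ →
    ∀ y ∈ Submodule.span k S ^ i, flag S j ≤ LinearMap.ker y := by
  induction j with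
  | zero =>
    intro i hi y hy
    rw [zero_add] at hi
    rw [hi, Submodule.mem_bot] at hy
    rw [hy, LinearMap.ker_zero]
    exact le_top
  | succ j ih =>
    intro i hi y hy
    refine flag_succ_le.2 fun s hs m hm => ih (i + 1) (by rwa [← add_assoc, add_right_comm]) (y * s) ?_ hm
    rw [pow_succ]
    exact Submodule.mul_mem_mul hy (Submodule.subset_span hs)

omit hp [CharP k p] in
theorem apply_mem_flag {S : Set (End k M)} {α : GLM} (h : ∀ s ∈ S, cj α s ∈ S) (j : ℕ) :
    ∀ m ∈ flag S j, (α : End k M) m ∈ flag S j := by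
  induction j with
  | zero => exact fun _ _ => trivial
  | succ j ih =>
    refine flag_succ_le (W := (flag S (j + 1)).comap (α : End k M)).2 fun s hs m hm => ?_
    rw [Submodule.mem_comap, ← cj_apply_apply]
    exact mem_flag_succ (h s hs) (ih m hm)

/-- The unipotent stabilizer of the flag. -/
def flagGrp (G : Subgroup GLM) (S : Set (End k M)) : Subgroup GLM where
  carrier := {g | g ∈ G ∧ ∀ j, ∀ m ∈ flag S j, (g : End k M) m - m ∈ flag S (j + 1) ∧
    ((g⁻¹ : GLM) : End k M) m - m ∈ flag S (j + 1)}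
  one_mem' := ⟨G.one_mem, by simp⟩
  mul_mem' := by
    have key : ∀ {x y : End k M} {j : ℕ}, (∀ m ∈ flag S j, x m - m ∈ flag S (j + 1)) →
        (∀ m ∈ flag S j, y m - m ∈ flag S (j + 1)) → ∀ m ∈ flag S j, (x * y) m - m ∈ flag S (j + 1) := by
      intro x y j hx hy m hm
      have : y m ∈ flag S j := by simpa using Submodule.add_mem _ (flag_anti S j (hy m hm)) hm
      simpa using Submodule.add_mem _ (hx _ this) (hy m hm)
    rintro g h ⟨g0, g1⟩ ⟨h0, h1⟩
    refine ⟨G.mul_mem g0 h0, fun j m hm => ⟨key (fun m hm => (g1 j m hm).1) (fun m hm => (h1 j m hm).1) m hm, ?_⟩⟩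
    rw [mul_inv_rev]
    exact key (fun m hm => (h1 j m hm).2) (fun m hm => (g1 j m hm).2) m hm
  inv_mem' := by
    rintro g ⟨g0, g1⟩
    exact ⟨G.inv_mem g0, fun j m hm => ⟨(g1 j m hm).2, (g1 j m hm).1⟩⟩

theorem flagGrp_isPGroup {S : Set (End k M)} {N : ℕ} (hI : Submodule.span k S ^ N = ⊥) : IsPGroup p (flagGrp G S) := by
  rintro ⟨g, hg⟩
  refine ⟨N, Subtype.ext (pow_eq_one_of_nilp (LinearMap.ext fun m => ?_))⟩
  have key : ∀ j, (((g : End k M) - 1) ^ j) m ∈ flag S j := by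
    intro j
    induction j with
    | zero => trivial
    | succ j ih => rw [pow_succ']; exact (hg.2 j _ ih).1
  exact flag_le_ker N 0 hI 1 (by simp [Submodule.one_le.1 le_rfl]) (key N)

omit hp [CharP k p] in
theorem mem_normalizer_flagGrp {S : Set (End k M)} {α : GLM} (hα : α ∈ Subgroup.normalizer (G : Set GLM))
    (h : ∀ s ∈ S, cj α s ∈ S) (h' : ∀ s ∈ S, cj α⁻¹ s ∈ S) : α ∈ Subgroup.normalizer (flagGrp G S : Set GLM) := by
  have key : ∀ α : GLM, α ∈ Subgroup.normalizer (G : Set GLM) → (∀ s ∈ S, cj α s ∈ S) → (∀ s ∈ S, cj α⁻¹ s ∈ S) →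
      ∀ g ∈ flagGrp G S, α * g * α⁻¹ ∈ flagGrp G S := by
    rintro α hα h h' g ⟨g0, g1⟩
    refine ⟨(Subgroup.mem_normalizer_iff.1 hα g).1 g0, fun j m hm => ?_⟩
    have := g1 j _ (apply_mem_flag h' j m hm)
    have e : ∀ g : GLM, ((α * g * α⁻¹ : GLM) : End k M) m - m = (α : End k M) ((g : End k M)
        (((α⁻¹ : GLM) : End k M) m) - ((α⁻¹ : GLM) : End k M) m) := fun g => by
      rw [map_sub, apply_inv_apply]; rfl
    rw [show (α * g * α⁻¹)⁻¹ = α * g⁻¹ * α⁻¹ by group, e, e]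
    exact ⟨apply_mem_flag h _ _ this.1, apply_mem_flag h _ _ this.2⟩
  refine Subgroup.mem_normalizer_iff.2 fun g => ⟨key α hα h h' g, fun hg => ?_⟩
  simpa [mul_assoc] using key α⁻¹ (Subgroup.inv_mem _ hα) h' (by rwa [inv_inv]) _ hg

omit hp [CharP k p] in
theorem q0_flagGrp {S : Set (End k M)} {b ξ : End k M} (hb : Q0 G b) (hξ : ξ ∈ S)
    (hr : LinearMap.range b ≤ LinearMap.range ξ) (hc : ∀ x ∈ S, x * b = b * x) : Q0 (flagGrp G S) b := by
  have key : ∀ j, ∀ m ∈ flag S j, b m ∈ flag S (j + 1) := by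
    intro j
    induction j with
    | zero =>
      intro m _
      obtain ⟨m', e⟩ := hr ⟨m, rfl⟩
      exact e ▸ mem_flag_succ hξ trivial
    | succ j ih =>
      refine flag_succ_le (W := (flag S (j + 1 + 1)).comap b).2 fun s hs m hm => ?_
      rw [Submodule.mem_comap, ← Module.End.mul_apply, ← hc s hs]
      exact mem_flag_succ hs (ih m hm)
  refine Q0.of_ex hb.sq fun c => ⟨hb.ex_smul_mem c, fun j m hm => ⟨?_, ?_⟩⟩
  · simpa using Submodule.smul_mem _ c (key j m hm)
  · simpa using Submodule.smul_mem _ c (key j m hm)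

/-- Reduction to root elements. -/
theorem exists_root [Finite k] [FiniteDimensional k M] (H : Hyp k) (hG : NoUnip G) (hPG : P ≤ G) (hP : IsPGroup p P)
    {q : End k M} (hq : Q0 P q) (h0 : q ≠ 0) :
    (∃ ξ, Q0 P ξ ∧ ξ ≠ 0 ∧ ∀ a, Min G a → a * ξ = ξ * a) ∨ ∃ (P' : Subgroup GLM) (b : End k M), P' ≤ G ∧ IsPGroup p P' ∧
      Subgroup.normalizer (G : Set GLM) ⊓ Subgroup.normalizer (P : Set GLM) ≤ Subgroup.normalizer (P' : Set GLM) ∧
      Min G b ∧ Q0 P' b := by
  haveI := finite_gl (k := k) (M := M)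
  obtain ⟨N, hN⟩ := isUnipotentOn_iff.1 (isUnipotentOn_of_isPGroup hP)
  have hle : ∀ x, Q0 P x → x ∈ aug P := fun x hx => by simpa using sub_one_mem_aug hx.ex_mem
  have hI : Submodule.span k {x | Q0 P x} ^ N = ⊥ :=
    le_bot_iff.1 ((pow_le_pow_left' (Submodule.span_le.2 hle) N).trans hN.le)
  obtain ⟨a₀, ha₀⟩ := exists_min hq h0
  obtain ⟨ξ, -, hξ, hc⟩ := exists_deep H.two (G := P) (S := {x | Q0 P x}) (fun _ h => h) hI ⊤ (fun _ _ _ _ => ⟨trivial, trivial⟩)
    (fun x hx b _ hb => aqa_eq_zero_of_pow H.two N hb hx (by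
      have h1 : b * x + x * b ∈ aug P := Submodule.add_mem _ (aug_mul_le P (Submodule.mul_mem_mul (hle b hb.q0) (hle x hx)))
        (aug_mul_le P (Submodule.mul_mem_mul (hle x hx) (hle b hb.q0)))
      exact (Submodule.mem_bot k).1 (hN ▸ Submodule.pow_mem_pow _ h1 N))) trivial ha₀
  have hξG := hξ.q0.mono hPG
  by_cases h : ∀ a, Min G a → a * ξ * a = 0
  · exact Or.inl ⟨ξ, hξ.q0, hξ.ne, fun a ha => comm_of_forall_aqa H hG hξG h ha⟩
  push Not at h
  obtain ⟨a, ha, h⟩ := h
  obtain ⟨e, he, he0, heq⟩ := exists_inverse H ha hξG h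
  have hm := ha.of_mem_cls he he0
  have hm1 : Min G (ξ * e * ξ) := by
    have h1 : ∀ x, e * (ξ * (e * x)) = e * x := fun x => by rw [← mul_assoc, ← mul_assoc, heq]
    have h2 : e * (ξ * e) = e := by rw [← mul_assoc, heq]
    have key : (1 + e) * ((1 + -ξ) * e * (1 - -ξ)) * (1 - e) = -(ξ * e * ξ) := by
      simp only [add_mul, mul_add, sub_mul, mul_sub, one_mul, mul_one, mul_assoc, neg_mul, mul_neg, hm.sq, hm.q0.sq', h1,
        h2, mul_zero, zero_mul]
      abel
    have := ((hm.conj_ex hξG.neg).conj_ex hm.q0).neg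
    rwa [key, neg_neg] at this
  have hW : ∀ x, Q0 P x → ∀ b ∈ cls G ξ, (1 + x) * b * (1 - x) ∈ cls G ξ := fun x hx b hb => by
    have := mem_cls_cj hb (Subgroup.le_normalizer (hPG hx.ex_mem))
    rwa [(cj_eq_iff _).2 (show (ex x hx.sq : End k M) * ξ = ξ * ex x hx.sq by simp [add_mul, mul_add, hc x hx])] at this
  obtain ⟨b, hbW, hb, hbc⟩ := exists_deep H.two (G := G) (S := {x | Q0 P x}) (fun _ h => Q0.mono hPG h) hI (cls G ξ)
    (fun x hx b hb => ⟨hW x hx b hb, by simpa only [sub_neg_eq_add, ← sub_eq_add_neg] using hW _ (Q0.neg hx) b hb⟩)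
    (fun x hx b hbW hb => by
      have := congrArg (· * (1 + x)) (cls_mul hbW (hW x hx b hbW))
      simpa only [add_mul, mul_add, sub_mul, mul_sub, one_mul, mul_one, mul_assoc, hb.sq, hb.q0.sq', Q0.sq hx, mul_zero,
        zero_mul, zero_add, sub_zero, add_zero, sub_add_cancel] using this)
    ((mem_cls hξ.sq).2 ⟨hm1.q0, by rw [mul_assoc]; exact range_mul_le _ _, ker_le_ker_mul _ _⟩) hm1
  exact Or.inr ⟨flagGrp G {x | Q0 P x}, b, fun _ h => h.1, flagGrp_isPGroup hI, fun α hα => mem_normalizer_flagGrp hα.1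
    (fun s hs => q0_cj hs hα.2) fun s hs => q0_cj hs (Subgroup.inv_mem _ hα.2), hb,
    q0_flagGrp hb.q0 hξ.q0 (cls_range hbW) hbc⟩

end CL.QAct
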