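/-
Quadratic pairs under operators, part 6: density of opposite root elements; the unipotent core of a root subgroup
fixes no other root element; opposite root elements inside the centralizer of an `sl₂`-pair.
-/
import Cfsg.Agent.QAct.Flag

set_option autoImplicit false
set_option linter.all false

namespace CL.QAct

open Module LinearMap Cfsg CL.Chev CL.Chev.Quad Polynomial
open scoped commutatorElement MatrixGroups Pointwise

section gen
variable {k : Type*} [Field k] {M : Type*} [AddCommGroup M] [Module k M]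

local notation "GLM" => LinearMap.GeneralLinearGroup k M
local notation "Σ₀" => quadraticRootSubgroups

variable {G : Subgroup (LinearMap.GeneralLinearGroup k M)}

/-- Irreducible sets of group elements. -/
def Good (S : Set GLM) : Prop := ∀ (φ ψ : End k M →ₗ[k] k) (y z : End k M), (∃ g ∈ S, φ (cj g y) ≠ 0) →
  (∃ g ∈ S, ψ (cj g z) ≠ 0) → ∃ g ∈ S, φ (cj g y) ≠ 0 ∧ ψ (cj g z) ≠ 0

theorem Good.mul {S T : Set GLM} (hS : Good S) (hT : Good T) : Good (S * T) := by
  rintro φ ψ y z ⟨_, ⟨g, hg, g', hg', rfl⟩, h1⟩ ⟨_, ⟨h, hh, h', hh', rfl⟩, h2⟩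
  simp only [cj_mul] at h1 h2
  obtain ⟨x, hx, h3, h4⟩ := hS φ ψ _ _ ⟨g, hg, h1⟩ ⟨h, hh, h2⟩
  obtain ⟨x', hx', h5, h6⟩ := hT (φ ∘ₗ (cj x).toLinearMap) (ψ ∘ₗ (cj x).toLinearMap) y z ⟨g', hg', h3⟩ ⟨h', hh', h4⟩
  exact ⟨_, ⟨x, hx, x', hx', rfl⟩, by simp only [cj_mul]; exact h5, by simp only [cj_mul]; exact h6⟩

theorem good_ex [Finite k] (h5 : 5 ≤ Nat.card k) {x : End k M} (hx : x * x = 0) :
    Good (Set.range fun t : k => ex (t • x) (smul_sq_zero hx t)) := by
  have key : ∀ (φ : End k M →ₗ[k] k) (y : End k M), ∃ P : k[X], P.natDegree ≤ 2 ∧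
      ∀ t : k, P.eval t = φ (cj (ex (t • x) (smul_sq_zero hx t)) y) := fun φ y =>
    ⟨C (φ y) + C (φ (x * y - y * x)) * X - C (φ (x * y * x)) * X ^ 2, by compute_degree, fun t => by
      simp only [cj_ex, add_mul, mul_sub, one_mul, mul_one, smul_mul_assoc, mul_smul_comm, map_sub, map_add, map_smul,
        smul_eq_mul, eval_sub, eval_add, eval_mul, eval_C, eval_X, eval_pow]
      ring⟩
  rintro φ ψ y z ⟨_, ⟨s, rfl⟩, h1⟩ ⟨_, ⟨s', rfl⟩, h2⟩
  obtain ⟨P, hP, eP⟩ := key φ y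
  obtain ⟨Q, hQ, eQ⟩ := key ψ z
  have hP0 : P ≠ 0 := fun h => h1 (by rw [← eP, h, eval_zero])
  have hQ0 : Q ≠ 0 := fun h => h2 (by rw [← eQ, h, eval_zero])
  by_contra hne
  haveI := Fintype.ofFinite k
  refine mul_ne_zero hP0 hQ0 (eq_zero_of_natDegree_lt_card_of_eval_eq_zero _ Function.injective_id (fun t => ?_) ?_)
  · by_contra h
    rw [eval_mul, id_eq, eP, eQ] at h
    exact hne ⟨_, ⟨t, rfl⟩, left_ne_zero_of_mul h, right_ne_zero_of_mul h⟩
  · have := natDegree_mul_le (p := P) (q := Q)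
    rw [← Nat.card_eq_fintype_card]; omega

variable [FiniteDimensional k M]

theorem good_of_le [Finite k] (h5 : 5 ≤ Nat.card k) (hG : G ≤ root0 G) : Good (G : Set GLM) := by
  have key : ∀ g ∈ root0 G, ∃ S : Set GLM, Good S ∧ 1 ∈ S ∧ g ∈ S ∧ S ⊆ G := by
    intro g hg
    refine biSup_induction (p := fun g => ∃ S : Set GLM, Good S ∧ 1 ∈ S ∧ g ∈ S ∧ S ⊆ G) hg ?_ ?_ ?_
    · intro A hA x hx
      obtain ⟨a, ha, rfl⟩ := mem_quadraticRootSubgroups.1 hA
      obtain ⟨b, hb, rfl⟩ := exists_of_mem_clsGrp hx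
      refine ⟨_, good_ex h5 (cls_q0 hb).sq, ⟨0, Units.ext (by simp)⟩, ⟨1, Units.ext (by simp)⟩, ?_⟩
      rintro _ ⟨t, rfl⟩
      exact (cls_q0 hb).ex_smul_mem t
    · refine ⟨{1}, ?_, rfl, rfl, Set.singleton_subset_iff.2 G.one_mem⟩
      rintro φ ψ y z ⟨_, rfl, h1⟩ ⟨_, rfl, h2⟩
      exact ⟨1, rfl, h1, h2⟩
    · rintro x y ⟨S, h1, h2, h3, h4⟩ ⟨T, h5, h6, h7, h8⟩
      refine ⟨S * T, h1.mul h5, ⟨1, h2, 1, h6, one_mul _⟩, ⟨x, h3, y, h7, rfl⟩, ?_⟩
      rintro _ ⟨a, ha, b, hb, rfl⟩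
      exact G.mul_mem (h4 ha) (h8 hb)
  rintro φ ψ y z ⟨g, hg, h1⟩ ⟨h, hh, h2⟩
  obtain ⟨S, s1, s2, s3, s4⟩ := key _ (hG (G.mul_mem hg (G.inv_mem hh)))
  obtain ⟨x, hx, h3⟩ := s1 φ ψ (cj h y) (cj h z) ⟨_, s3, by rwa [← cj_mul, inv_mul_cancel_right]⟩ ⟨1, s2, by rwa [cj_one]⟩
  exact ⟨x * h, G.mul_mem (s4 hx) hh, by simpa only [cj_mul] using h3⟩

/-- `G` is generated by one class of root subgroups. -/
structure Conn (G : Subgroup GLM) : Prop where
  nu : NoUnip G
  gen : G ≤ root0 G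
  trans : ∀ a b, Min G a → Min G b → ∃ g ∈ G, cj g a ∈ cls G b

theorem eq_zero_of_central (hG : NoUnip G) {y : End k M} (hy : Q0 G y) (h : ∀ g ∈ G, ex y hy.sq * g = g * ex y hy.sq) :
    y = 0 := by
  have := hG (clsGrp G y) (clsGrp_le y) (fun g hg x hx => by
    have e : cj g y = y := (cj_eq_iff g).2 (comm_of_ex_commute hy.sq (h g hg)).symm
    have := Root.conj_mem_conjBy hx g
    rwa [conjBy_clsGrp' y (Subgroup.le_normalizer hg), e] at this)
    (isUnipotentOn_of_aug_le (aug_clsGrp_le y) (n := 2) (by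
      rw [sq, eq_bot_iff]; exact Submodule.mul_le.2 fun a ha b hb => cls_mul ha hb))
  exact (ex_eq_one hy.sq).1 (Subgroup.mem_bot.1 (this ▸ ex_mem_clsGrp (self_mem_cls hy)))

theorem Conn.eq_zero (H : Hyp k) (hG : Conn G) {y : End k M} (hy : Q0 G y) (h : ∀ a, Min G a → a * y * a = 0) : y = 0 :=
  eq_zero_of_central hG.nu hy fun g hg =>
    ((mem_centralizer_root0 hy.sq).2 (fun a ha => comm_of_forall_aqa H hG.nu hy h ha) g (hG.gen hg)).symm

theorem aya_congr {a x y : End k M} (ha : Min G a) (hx : x ∈ cls G a) (h : a * y * a = 0) : x * y * x = 0 := by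
  have h1 : a * y * x = 0 := mul_eq_zero_of_range_le (cls_range hx) h
  rw [mul_assoc] at h1 ⊢
  exact mul_eq_zero_of_ker_le (cls_ker hx) h1

theorem Conn.dens [Finite k] (h5 : 5 ≤ Nat.card k) (hG : Conn G) {a b y z : End k M} (ha : Min G a) (hb : Min G b)
    (hy : a * y * a ≠ 0) (hz : b * z * b ≠ 0) : ∃ x, Min G x ∧ x * y * x ≠ 0 ∧ x * z * x ≠ 0 := by
  obtain ⟨g, hg, hab⟩ := hG.trans a b ha hb
  have hm := min_cj ha (Subgroup.le_normalizer hg)
  have h1 : a * cj g⁻¹ z * a ≠ 0 := fun h => hz (aya_congr hm (hb.cls_eq hab hm.ne ▸ self_mem_cls hb.q0) (by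
    simpa using congrArg (cj g) h))
  obtain ⟨φ, hφ⟩ := not_forall.1 ((Module.forall_dual_apply_eq_zero_iff k _).not.2 hy)
  obtain ⟨ψ, hψ⟩ := not_forall.1 ((Module.forall_dual_apply_eq_zero_iff k _).not.2 h1)
  obtain ⟨x, hx, h2, h3⟩ := good_of_le h5 hG.gen (φ ∘ₗ mulRight k a ∘ₗ mulLeft k a) (ψ ∘ₗ mulRight k a ∘ₗ mulLeft k a) y z
    ⟨1, G.one_mem, by rwa [cj_one]⟩ ⟨g⁻¹, G.inv_mem hg, hψ⟩
  have key : ∀ w, cj x⁻¹ a * w * cj x⁻¹ a = 0 → a * cj x w * a = 0 := fun w h => by simpa using congrArg (cj x) h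
  refine ⟨_, min_cj ha (Subgroup.le_normalizer (G.inv_mem hx)), fun h => h2 ?_, fun h => h3 ?_⟩
  · change φ (a * cj x y * a) = 0
    rw [key _ h, map_zero]
  · change ψ (a * cj x z * a) = 0
    rw [key _ h, map_zero]

theorem min_compGrp (H : Hyp k) (hG : NoUnip G) {E : Subgroup GLM} (hE : E ∈ Σ₀ G) {a : End k M} :
    Min (compGrp G E) a ↔ Min G a ∧ clsGrp G a ∈ comp G E := by
  have key : ∀ a, Min G a → clsGrp G a ∈ comp G E → Q0 (compGrp G E) a := fun a ha h =>
    Q0.of_ex ha.sq fun c => le_biSup_self h (ex_mem_clsGrp (Submodule.smul_mem _ c (self_mem_cls ha.q0)))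
  refine ⟨fun h => ?_, fun h => ⟨key a h.1 h.2, h.1.ne, fun b hb hb0 => h.1.le (hb.mono (compGrp_le E)) hb0⟩⟩
  obtain ⟨a₀, ha₀, rfl⟩ := mem_quadraticRootSubgroups.1 hE
  have ha := ha₀.of_rk_le (h.q0.mono (compGrp_le _)) h.ne (h.le (key a₀ ha₀ (self_mem_comp hE)) ha₀.ne)
  refine ⟨ha, by_contra fun hne => h.ne (eq_zero_of_central (noUnip_compGrp hG) h.q0 fun g hg => ?_)⟩
  exact Root.comm_bot_iff.1 (commutator_compGrp fun e => hne (e ▸ self_mem_comp (clsGrp_mem ha))) _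
    (le_biSup_self (self_mem_comp (clsGrp_mem ha)) (ex_mem_clsGrp (self_mem_cls ha.q0))) g hg

theorem cls_compGrp {E : Subgroup GLM} {a : End k M} (h : clsGrp G a ∈ comp G E) : cls (compGrp G E) a = cls G a := by
  ext b
  exact ⟨fun hb => ⟨hb.1.mono (compGrp_le E), hb.2⟩, fun hb => ⟨Q0.of_ex hb.1.sq fun c =>
    le_biSup_self h (ex_mem_clsGrp (Submodule.smul_mem _ c hb)), hb.2⟩⟩

theorem conn_compGrp (H : Hyp k) (hG : NoUnip G) {E : Subgroup GLM} (hE : E ∈ Σ₀ G) : Conn (compGrp G E) := by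
  refine ⟨noUnip_compGrp hG, iSup₂_le fun B hB => ?_, fun a b ha hb => ?_⟩
  · obtain ⟨a, ha, rfl⟩ := mem_quadraticRootSubgroups.1 hB.1
    intro x hx
    refine clsGrp_le_root0 ((min_compGrp H hG hE).2 ⟨ha, hB⟩) ?_
    rwa [mem_clsGrp, cls_compGrp hB]
  · obtain ⟨ha, ha'⟩ := (min_compGrp H hG hE).1 ha
    obtain ⟨hb, hb'⟩ := (min_compGrp H hG hE).1 hb
    obtain ⟨g, hg, e⟩ := exists_conjBy_of_mem_comp H hG (comp_eq ha' ▸ hb' : clsGrp G b ∈ comp G (clsGrp G a))
    have hg' := Subgroup.le_normalizer (compGrp_le _ hg)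
    rw [compGrp, comp_eq ha'] at hg
    refine ⟨g, hg, ?_⟩
    rw [cls_compGrp hb']
    exact (min_cj ha hg').mem_cls_of_clsGrp_eq (by rw [e, conjBy_clsGrp' a hg'])

theorem comm_cls (H : Hyp k) {a b x : End k M} (ha : Min G a) (hb : Min G b) (h : a * b = b * a) (hx : x ∈ cls G a) :
    x * b = b * x :=
  (ex_commute_iff (cls_q0 hx).sq hb.sq).1 (Root.comm_bot_iff.1
    (commutator_eq_bot_of_comm H ha hb (not_opp_of_comm ha h) h) _ (ex_mem_clsGrp hx) _
      (ex_mem_clsGrp (self_mem_cls hb.q0)))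

omit [FiniteDimensional k M] in
theorem core_even {e f : End k M} (h : Pair e f) {u : GLM} (hu : u ∈ core G e)
    (hc : (u : End k M) * (e * f + f * e) = (e * f + f * e) * u) :
    ((u : End k M) - 1) * (e * f + f * e) = u - 1 := by
  have h1 : (1 - (e * f + f * e)) * (((u : End k M) - 1) * (1 - (e * f + f * e))) = 0 := LinearMap.ext fun m => by
    have h2 : (1 - (e * f + f * e)) m ∈ LinearMap.ker e := by
      rw [LinearMap.mem_ker, ← Module.End.mul_apply, mul_sub, mul_add, h.ee', h.efe₀]; simp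
    obtain ⟨m', e1⟩ := hu.2.2.1 _ h2
    have h3 : (1 - (e * f + f * e)) * e = 0 := by rw [sub_mul, add_mul, h.efe, mul_assoc, h.ee]; simp
    rw [Module.End.mul_apply, Module.End.mul_apply, LinearMap.sub_apply (u : End k M), Module.End.one_apply, ← e1,
      ← Module.End.mul_apply, h3]
    rfl
  have h4 : (1 - (e * f + f * e)) * (1 - (e * f + f * e)) = 1 - (e * f + f * e) := by
    simp only [add_mul, mul_add, sub_mul, mul_sub, one_mul, mul_one, mul_assoc, h.ee', h.ff', h.efe', h.fef', h.efe₀,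
      h.fef₀, mul_zero]
    abel
  have h5 : Commute (1 - (e * f + f * e)) ((u : End k M) - 1) :=
    (Commute.one_left _).sub_left ((Commute.symm hc).sub_right (Commute.one_right _))
  rw [← mul_assoc, h5.eq, mul_assoc, h4, mul_sub, mul_one, sub_eq_zero] at h1
  exact h1.symm

theorem core_reg {e f : End k M} (h : Pair e f) {u : GLM} (hu : u ∈ core G e) (hf : cj u f = f) : u = 1 := by
  have h1 := core_mul_left hu (le_refl (LinearMap.range e))
  have h2 := core_mul_right hu (le_refl (LinearMap.ker e))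
  have h3 := (cj_eq_iff u).1 hf
  have h4 : (u : End k M) * (e * f + f * e) = e * f + f * e := by
    rw [mul_add, ← mul_assoc, h1, ← mul_assoc, h3, mul_assoc f, h1]
  have := core_even h hu (by rw [h4, add_mul, mul_assoc, ← h3, ← mul_assoc, h2, mul_assoc, h2])
  rw [sub_mul, h4, one_mul, sub_self] at this
  exact Units.ext (sub_eq_zero.1 this.symm)

theorem tor_neg_val {e f : End k M} (h : Pair e f) :
    (tor h (-1) : End k M) = 1 - ((e * f + f * e) + (e * f + f * e)) := by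
  rw [tor_val]
  simp only [inv_neg, inv_one, Units.val_neg, Units.val_one, sub_smul, neg_smul, one_smul]
  abel

theorem comm_tor_iff (h2 : (2 : k) ≠ 0) {e f : End k M} (h : Pair e f) {x : End k M} :
    cj (tor h (-1)) x = x ↔ x * (e * f + f * e) = (e * f + f * e) * x := by
  rw [cj_eq_iff, tor_neg_val]
  refine ⟨fun h1 => sub_eq_zero.1 (two_cancel h2 ?_), fun h1 => ?_⟩
  · rw [← sub_eq_zero] at h1
    rw [← h1]; noncomm_ring
  · rw [sub_mul, mul_sub, add_mul _ (e * f + f * e), mul_add x (e * f + f * e), h1, one_mul, mul_one]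

omit [FiniteDimensional k M] in
theorem ex_mem_core {e d : End k M} (hd : Q0 G d) (h1 : e * d = 0) (h2 : d * e = 0)
    (h3 : ∀ m, e m = 0 → d m ∈ LinearMap.range e) : ex d hd.sq ∈ core G e := by
  refine ⟨hd.ex_mem, fun m => ?_, fun m hm => ?_, ?_⟩
  · simpa using DFunLike.congr_fun h1 m
  · simpa using h3 m hm
  · rintro _ ⟨m, rfl⟩
    simpa using DFunLike.congr_fun h2 m

end gen

variable {p : ℕ} [hp : Fact p.Prime] {M : Type*} [AddCommGroup M] [Module (ZMod p) M] [FiniteDimensional (ZMod p) M]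

local notation "k" => ZMod p
local notation "GLM" => LinearMap.GeneralLinearGroup (ZMod p) M

variable {G : Subgroup (LinearMap.GeneralLinearGroup (ZMod p) M)} {e f : End (ZMod p) M}

theorem core_even_mem (F : Fr G e f) {u : GLM} (hu : u ∈ core G e)
    (hc : (u : End k M) * (e * f + f * e) = (e * f + f * e) * u) : (u : End k M) - 1 ∈ cls G e := by
  have h1 : ((u : End k M) - 1) * e = 0 := by rw [sub_mul, core_mul_left hu le_rfl, one_mul, sub_self]
  have h2 : e * ((u : End k M) - 1) = 0 := by rw [mul_sub, core_mul_right hu le_rfl, mul_one, sub_self]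
  have h3 := core_even F.p hu hc
  have h4 : (e * f + f * e) * ((u : End k M) - 1) = u - 1 := by
    rw [mul_sub, ← hc, mul_one, ← sub_one_mul, h3]
  rw [mul_add, ← mul_assoc, h1, zero_mul, zero_add, ← mul_assoc] at h3
  rw [add_mul, mul_assoc f, h2, mul_zero, add_zero, mul_assoc] at h4
  refine (mem_cls F.p.ee).2 ⟨q0_of_mem hu.1 ?_, h4 ▸ range_mul_le _ _, h3 ▸ ker_le_ker_mul _ _⟩
  nth_rw 1 [← h3]
  rw [mul_assoc, h2, mul_zero]

theorem Fr.comm_of_even (H : Hyp k) (F : Fr G e f) {b c : End k M} (hb : Min G b) (hc : Min G c) (hbe : e * b = b * e)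
    (hbf : f * b = b * f) (hz : c * (e * f + f * e) = (e * f + f * e) * c) (h : b * c * b ≠ 0) : e * c = c * e := by
  by_cases ho : Opp e c
  · obtain ⟨e', he', he0, hp'⟩ := ho.symm.exists_pair H hc F.he
    obtain ⟨f', hf', F'⟩ := F.exists_partner H he' he0
    have e1 : e' * f' + f' * e' = e * f + f * e := by
      have m1 : e ∈ cls G e' := F.he.cls_eq he' he0 ▸ F.self_mem
      have m2 : f ∈ cls G f' := F.hf.cls_eq hf' F'.hf.ne ▸ F.symm.self_mem
      have a1 : e' * f' = e * f := by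
        rw [← F.efx' he' f', F'.symm.xfe m2]
      have a2 : f' * e' = f * e := by
        rw [← F.symm.efx' hf' e', F'.xfe m1]
      rw [a1, a2]
    obtain ⟨u, hu, rfl⟩ := exists_core_cj (p := p) H F'.he F'.hf.q0 hc.q0 F'.p hp'.symm
    have hzG := tor_mem F'.p F'.he.q0 F'.hf.q0 (-1)
    set z := tor F'.p (-1) with hzd
    have ze : cj z e' = e' := (comm_tor_iff H.two F'.p).2 (by
      rw [mul_add, add_mul, F'.p.ee', F'.p.efe₀, F'.p.efe, mul_assoc, F'.p.ee]; simp)
    have zf : cj z f' = f' := (comm_tor_iff H.two F'.p).2 (by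
      rw [mul_add, add_mul, F'.p.ff', F'.p.fef₀, F'.p.fef, mul_assoc, F'.p.ff]; simp)
    have zc : cj z (cj u f') = cj u f' := (comm_tor_iff H.two F'.p).2 (e1 ▸ hz)
    have h1 := core_reg F'.p ((core G e').mul_mem ((core G e').inv_mem hu)
      (ze ▸ conj_mem_core hu (Subgroup.le_normalizer hzG))) (by
        rw [cj_mul, cj_mul, cj_mul, show cj z⁻¹ f' = f' by nth_rw 1 [← zf]; rw [cj_inv_cj], zc, cj_inv_cj])
    have h2 := core_even_mem F' hu ((comm_tor_iff H.two F'.p).1 (by rw [cj_coe, ← inv_mul_eq_one.1 h1]))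
    have c1 := comm_cls H F'.he hb (comm_cls H F.he hb hbe he') h2
    have c2 := comm_cls H F.hf hb hbf hf'
    have c3 : cj u b = b := (cj_eq_iff u).2 (by rwa [sub_mul, mul_sub, one_mul, mul_one, sub_left_inj] at c1)
    exact absurd (by rw [← c3, ← map_mul, ← map_mul, ← c2, mul_assoc, hb.sq, mul_zero, map_zero]) h
  have h1 := aba_eq_zero_of_not_opp H F.he hc ho
  have h2 := aba_eq_zero_of_not_opp H hc F.he fun h => ho h.symm
  by_contra hne
  have hd := (class_two F.he hc.q0 h1 h2 (sub_ne_zero.2 hne)).1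
  have h3 := core_even_mem F (ex_mem_core hd.q0 (by rw [mul_sub, F.p.ee', ← mul_assoc, h1, sub_zero])
    (by rw [sub_mul, h1, mul_assoc, F.p.ee, mul_zero, sub_zero]) fun m hm => ⟨c m, by simp [hm]⟩) (by
      have a1 : Commute e (e * f + f * e) := by
        rw [Commute, SemiconjBy, mul_add, add_mul, F.p.ee', F.p.efe₀, F.p.efe, mul_assoc, F.p.ee]; simp
      exact (Commute.one_left _).add_left ((a1.mul_left hz).sub_left (Commute.mul_left hz a1)))
  rw [ex_val, add_sub_cancel_left] at h3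
  exact hne (comm_cls H hd hc (by rw [sub_mul, mul_sub, h2, mul_assoc, hc.sq, ← mul_assoc, h2, hc.q0.sq', mul_zero])
    (F.he.cls_eq h3 hd.ne ▸ F.self_mem))

/-- A root element commuting with an `sl₂`-pair has a partner commuting with the pair. -/
theorem Fr.exists_comm_partner (H : Hyp k) (h5 : 5 ≤ p) (hG : NoUnip G) (F : Fr G e f) {b : End k M} (hb : Min G b)
    (hbe : e * b = b * e) (hbf : f * b = b * f) : ∃ c, Fr G b c ∧ e * c = c * e ∧ f * c = c * f := by
  haveI : Finite GLM := finite_gl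
  obtain ⟨c, hc, hp'⟩ := exists_pair H hG hb
  have hzG := tor_mem F.p F.he.q0 F.hf.q0 (-1)
  set z := tor F.p (-1) with hzd
  have zb : cj z b = b := (comm_tor_iff H.two F.p).2
    (((Commute.symm hbe).mul_right (Commute.symm hbf)).add_right ((Commute.symm hbf).mul_right (Commute.symm hbe)))
  have hA : ∀ α ∈ Subgroup.zpowers z, α ∈ G ∧ cj α b = b := fun α hα =>
    ⟨Subgroup.zpowers_le.2 hzG hα, (cj_eq_iff α).2 (comm_of_ex_commute hb.sq (Subgroup.zpowers_le.2
      (show z ∈ Subgroup.centralizer {ex b hb.sq} from Subgroup.mem_centralizer_singleton_iff.2 (Units.ext (by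
        have := (cj_eq_iff z).1 zb
        simp [mul_add, add_mul, this]))) hα _ rfl)).symm⟩
  obtain ⟨n, hn⟩ := (core_isPGroup (G := G) (p := p) (by omega) b).exists_card_eq
  obtain ⟨x, hx, hfix⟩ := exists_conj_fixed (A := Subgroup.zpowers z) (K := core G b)
    (fun α hα => mem_normalizer_core hb (Subgroup.le_normalizer (hA α hα).1)
      (by rw [conjBy_clsGrp' b (Subgroup.le_normalizer (hA α hα).1), (hA α hα).2]))
    (by
      rw [hn, Nat.card_zpowers]
      refine Nat.Coprime.pow_right _ (Nat.Coprime.coprime_dvd_left (orderOf_dvd_of_pow_eq_one (n := 2) ?_)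
        ((Nat.coprime_primes Nat.prime_two hp.out).2 (by omega)))
      rw [hzd, ← map_pow]; simp)
    (Or.inl inferInstance) (ex c hc.sq) fun α hα => by
      obtain ⟨u, hu, e1⟩ := exists_core_cj (p := p) H hb hc.q0 (q0_cj hc.q0 (Subgroup.le_normalizer (hA α hα).1)) hp'
        ((hA α hα).2 ▸ pair_cj hp' α)
      exact ⟨u, hu, by rw [← ex_cj α hc.sq (cj_sq hc.sq α), ← ex_cj u hc.sq (cj_sq hc.sq u)]; simp only [e1]⟩
  have F' := (⟨hb, hc, hp'⟩ : Fr G b c).conj (Subgroup.le_normalizer hx.1)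
  rw [cj_core hx (self_mem_cls hb.q0)] at F'
  have e1 : cj z (cj x c) = cj x c := by
    have := congrArg (fun g : GLM => (g : End k M)) (hfix z (Subgroup.mem_zpowers z))
    simp only [← cj_coe, ex_val, map_add, map_one, add_right_inj] at this
    exact this
  have e2 := (comm_tor_iff H.two F.p).1 e1
  have h0 : b * cj x c * b ≠ 0 := F'.p.efe.symm ▸ hb.ne
  exact ⟨_, F', F.comm_of_even H hb F'.hf hbe hbf e2 h0, F.symm.comm_of_even H hb F'.hf hbf hbe (by rwa [add_comm]) h0⟩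

end CL.QAct
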