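/-
Quadratic pairs under operators, part 7: a `p`-subgroup invariant under a coprime operator group and its fixed points
contains no quadratic elements (Flavell).
-/
import Cfsg.Agent.QAct.Star
import Cfsg.Agent.Grp.ThompsonFpf

set_option autoImplicit false
set_option linter.all false

namespace CL.QAct

open Module LinearMap Cfsg CL.Chev CL.Chev.Quad
open scoped commutatorElement MatrixGroups

universe u

variable {p : ℕ} [hp : Fact p.Prime]

section grp
variable {Γ : Type*} [Group Γ] [Finite Γ]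

/-- `P` is a `p`-subgroup of `G` invariant under the coprime operator group `A` and under `C_G(A)`. -/
structure Inv (p : ℕ) {Γ : Type*} [Group Γ] (G A P : Subgroup Γ) : Prop where
  norm : A ≤ Subgroup.normalizer (G : Set Γ)
  cop : (Nat.card A).Coprime (Nat.card G)
  solv : Group.IsSolvable A ∨ Group.IsSolvable G
  le : P ≤ G
  pg : IsPGroup p P
  nA : A ≤ Subgroup.normalizer (P : Set Γ)
  nC : G ⊓ Subgroup.centralizer (A : Set Γ) ≤ Subgroup.normalizer (P : Set Γ)

variable {G A P : Subgroup Γ}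

omit hp in
theorem Inv.map {Γ' : Type*} [Group Γ'] (f : Γ →* Γ') (h : Inv p G A P) : Inv p (G.map f) (A.map f) (P.map f) where
  norm := (Subgroup.map_mono h.norm).trans (Subgroup.le_normalizer_map f)
  cop := (h.cop.coprime_dvd_left (Subgroup.card_map_dvd _ f)).coprime_dvd_right (Subgroup.card_map_dvd _ f)
  solv := h.solv.imp (CL.Grp.isSolvable_map_of_isSolvable · f) (CL.Grp.isSolvable_map_of_isSolvable · f)
  le := Subgroup.map_mono h.le
  pg := h.pg.map f
  nA := (Subgroup.map_mono h.nA).trans (Subgroup.le_normalizer_map f)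
  nC := by
    rw [map_inf_centralizer f h.norm h.cop h.solv]
    exact (Subgroup.map_mono h.nC).trans (Subgroup.le_normalizer_map f)

omit hp [Finite Γ] in
theorem Inv.subgroupOf (h : Inv p G A P) {L : Subgroup Γ} (hG : G ≤ L) (hA : A ≤ L) :
    Inv p (G.subgroupOf L) (A.subgroupOf L) (P.subgroupOf L) where
  norm := by rw [← Subgroup.subgroupOf_normalizer_eq hG]; exact Subgroup.comap_mono h.norm
  cop := by
    rw [Nat.card_congr (Subgroup.subgroupOfEquivOfLe hG).toEquiv, Nat.card_congr (Subgroup.subgroupOfEquivOfLe hA).toEquiv]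
    exact h.cop
  solv := h.solv.imp (fun h => by
    haveI := h; exact Group.isSolvable_of_isSolvable_injective (f := (Subgroup.subgroupOfEquivOfLe hA).toMonoidHom)
      (Subgroup.subgroupOfEquivOfLe hA).injective) fun h => by
    haveI := h; exact Group.isSolvable_of_isSolvable_injective (f := (Subgroup.subgroupOfEquivOfLe hG).toMonoidHom)
      (Subgroup.subgroupOfEquivOfLe hG).injective
  le := Subgroup.comap_mono h.le
  pg := h.pg.comap_subtype
  nA := by rw [← Subgroup.subgroupOf_normalizer_eq (h.le.trans hG)]; exact Subgroup.comap_mono h.nA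
  nC := by
    rw [← Subgroup.subgroupOf_normalizer_eq (h.le.trans hG), CL.Grp.centralizer_subgroupOf_eq hA]
    exact fun x hx => h.nC hx

omit hp [Finite Γ] in
theorem Inv.inf (h : Inv p G A P) {G' : Subgroup Γ} (hG : G' ≤ G) (hn : A ≤ Subgroup.normalizer (G' : Set Γ)) :
    Inv p G' A (P ⊓ G') :=
  ⟨hn, cop_mono h.cop le_rfl hG, solv_mono h.solv le_rfl hG, inf_le_right, h.pg.to_inf_left,
    CL.Grp.le_normalizer_inf' h.nA hn, CL.Grp.le_normalizer_inf' ((inf_le_inf_right _ hG).trans h.nC)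
      (inf_le_left.trans Subgroup.le_normalizer)⟩

omit hp in
theorem Inv.inf_comp (h : Inv p G A P) {K : Subgroup Γ} (hK : K ≤ G)
    (hA : ∀ a ∈ A, conjBy K a = K ∨ ⁅conjBy K a, K⁆ = ⊥) : Inv p K (A ⊓ Subgroup.normalizer (K : Set Γ)) (P ⊓ K) := by
  refine ⟨inf_le_right, cop_mono h.cop inf_le_left hK, solv_mono h.solv inf_le_left hK, inf_le_right, h.pg.to_inf_left,
    CL.Grp.le_normalizer_inf' (inf_le_left.trans h.nA) inf_le_right, fun c hc => ?_⟩
  obtain ⟨d, hd, hcd⟩ := exists_diag_lift h.norm hK hA hc.1 fun a ha e => by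
    rw [hc.2 a ⟨ha, Root.mem_normalizer_iff_conjBy.2 e⟩, mul_inv_cancel_right]
  refine Subgroup.mem_normalizer_fintype fun x hx => ⟨?_, K.mul_mem (K.mul_mem hc.1 hx.2) (K.inv_mem hc.1)⟩
  have : c * x * c⁻¹ = d * x * d⁻¹ := by
    calc c * x * c⁻¹ = c * (x * (c⁻¹ * d)) * d⁻¹ := by group
      _ = _ := by rw [hcd.2 x hx.2]; group
  exact this ▸ (Subgroup.mem_normalizer_iff.1 (h.nC hd) x).1 hx.1

end grp

theorem exists_factor {k : Type*} [Field k] [CharP k p] {Γ : Type*} [Group Γ] (y : Γ) (n : ℕ) :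
    ∀ (M : Type u) [AddCommGroup M] [Module k M] [FiniteDimensional k M] (σ : Representation k Γ M), finrank k M = n →
      (∀ m, σ y ^ p ^ m ≠ 1) → ∃ (N : Type u) (_ : AddCommGroup N) (_ : Module k N) (_ : FiniteDimensional k N)
        (τ : Γ →* End k N), IsIrreducibleFor τ.toHomUnits.range ∧ τ y ≠ 1 ∧
          ∀ g, (σ g - 1) * (σ g - 1) = 0 → (τ g - 1) * (τ g - 1) = 0 := by
  induction n using Nat.strong_induction_on with
  | _ n ih =>
  intro M _ _ _ σ hn hy
  have h1 : σ y ≠ 1 := by simpa using hy 0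
  by_cases hirr : IsIrreducibleFor σ.toHomUnits.range
  · exact ⟨M, _, _, ‹_›, σ, hirr, h1, fun _ h => h⟩
  have hM : ∃ m : M, m ≠ 0 := by
    by_contra h
    push Not at h
    exact h1 (LinearMap.ext fun m => (h _).trans (h _).symm)
  obtain ⟨W, hW, hW0, hW1⟩ : ∃ W : Submodule k M, (∀ g, W ≤ W.comap (σ g)) ∧ W ≠ ⊥ ∧ W ≠ ⊤ := by
    by_contra h
    refine hirr ⟨hM, fun W hW => by_contra fun hne => h ⟨W, fun g w hw => hW _ ⟨g, rfl⟩ w hw, not_or.1 hne⟩⟩
  by_cases h2 : ∀ m, σ.subrepresentation W hW y ^ p ^ m ≠ 1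
  · obtain ⟨N, _, _, _, τ, a1, a2, a3⟩ := ih _ (hn ▸ Submodule.finrank_lt hW1) W _ rfl h2
    exact ⟨N, _, _, ‹_›, τ, a1, a2, fun g hg => a3 g (LinearMap.ext fun w => Subtype.ext (DFunLike.congr_fun hg w.1))⟩
  by_cases h3 : ∀ m, σ.quotient W hW y ^ p ^ m ≠ 1
  · obtain ⟨N, _, _, _, τ, a1, a2, a3⟩ := ih _ (by
      have := W.finrank_quotient_add_finrank
      have := Submodule.finrank_eq_zero.not.2 hW0
      omega) (M ⧸ W) _ rfl h3
    refine ⟨N, _, _, ‹_›, τ, a1, a2, fun g hg => a3 g (LinearMap.ext fun w => ?_)⟩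
    obtain ⟨w, rfl⟩ := W.mkQ_surjective w
    exact congrArg W.mkQ (DFunLike.congr_fun hg w)
  push Not at h2 h3
  obtain ⟨i, hi⟩ := h2
  obtain ⟨j, hj⟩ := h3
  have e1 : σ.subrepresentation W hW (y ^ p ^ (i + j)) = 1 := by rw [map_pow, pow_add, pow_mul, hi, one_pow]
  have e2 : σ.quotient W hW (y ^ p ^ (i + j)) = 1 := by rw [map_pow, add_comm, pow_add, pow_mul, hj, one_pow]
  have e3 : (σ (y ^ p ^ (i + j)) - 1) ^ 2 = 0 := LinearMap.ext fun m => by
    have a1 : σ (y ^ p ^ (i + j)) m - m ∈ W := (Submodule.Quotient.eq W).1 (DFunLike.congr_fun e2 (W.mkQ m))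
    have a2 := congrArg Subtype.val (DFunLike.congr_fun e1 ⟨_, a1⟩)
    exact sub_eq_zero.2 a2
  have e4 := sub_one_pow_char (p := p) (σ (y ^ p ^ (i + j))) 1
  rw [pow_eq_zero_of_le (by simpa using hp.out.two_le) e3, map_pow, ← pow_mul, ← pow_add] at e4
  exact absurd (sub_eq_zero.1 e4.symm) (hy _)

section lin
variable {M : Type*} [AddCommGroup M] [Module (ZMod p) M] [FiniteDimensional (ZMod p) M]

local notation "k" => ZMod p
local notation "GLM" => LinearMap.GeneralLinearGroup (ZMod p) M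

variable {G : Subgroup (LinearMap.GeneralLinearGroup (ZMod p) M)} {e f : End (ZMod p) M}

/-- The unipotent core of a root subgroup fixes no other root element. -/
theorem Conn.star (h5 : 5 ≤ p) (hG : Conn G) {a : End k M} (he : Min G e) (ha : Min G a)
    (hfix : ∀ u ∈ core G e, cj u a = a) : a ∈ cls G e := by
  have H := hyp_zmod h5
  obtain ⟨f, hf, hp'⟩ := exists_pair H hG.nu he
  have F : Fr G e f := ⟨he, hf, hp'⟩
  have hc : e * (f * a * f) * e ∈ cls G e := by
    refine F.jordan H F.self_mem ?_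
    by_cases ho : Opp f a
    · exact ho.jordan H hf ha (self_mem_cls ha.q0)
    · rw [aba_eq_zero_of_not_opp H hf ha ho]; exact Submodule.zero_mem _
  set c := e * (f * a * f) * e with hcd
  have hcom : ∀ x ∈ cls G e, x * a = a * x := fun x hx => by
    have := (cj_eq_iff _).1 (hfix _ (ex_mem_core (cls_q0 hx) (cls_mul F.self_mem hx) (cls_mul hx F.self_mem)
      fun m _ => cls_range hx ⟨m, rfl⟩))
    simpa [add_mul, mul_add] using this
  let R : Submodule k (End k M) :=
    { carrier := {y | ∀ x, Min G x → x * y * x = 0}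
      add_mem' := fun h1 h2 x hx => by rw [mul_add, add_mul, h1 x hx, h2 x hx, add_zero]
      zero_mem' := fun x _ => by simp
      smul_mem' := fun t y h x hx => by rw [mul_smul_comm, smul_mul_assoc, h x hx, smul_zero] }
  have hR : ∀ g ∈ G, ∀ y ∈ R, cj g y ∈ R := fun g hg y hy x hx => by
    simpa using congrArg (cj g) (hy _ (min_cj hx (Subgroup.le_normalizer (G.inv_mem hg))))
  have hy : a - c ∈ R := fun x hx => by
    by_contra hne
    obtain ⟨x', hx', h1, h2⟩ := hG.dens (by rwa [Nat.card_zmod]) hx hf hne (z := e) (F.p.fef.symm ▸ hf.ne)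
    obtain ⟨u, hu, e1⟩ := exists_core_conjBy (p := p) H he hf hx' F.p.opp (opp_of_aba_ne H hx' he h2).symm
    have hu' := Subgroup.le_normalizer hu.1
    have h3 : cj u⁻¹ x' ∈ cls G f := by
      rw [← mem_cls_cj_iff hu', cj_cj_inv]
      exact hx'.mem_cls_of_clsGrp_eq (by rw [← e1, conjBy_clsGrp' f hu'])
    have h4 := congrArg (cj u) (aya_congr hf h3 (y := a - c) (by
      simp only [hcd, mul_sub, sub_mul, mul_assoc, F.p.fef', F.p.fef₀, sub_self]))
    rw [map_mul, map_mul, map_sub, hfix u hu, cj_core hu hc, cj_cj_inv, map_zero] at h4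
    exact h1 h4
  have hzG := tor_mem F.p F.he.q0 F.hf.q0 (-1)
  set z := tor F.p (-1) with hzd
  have hzc : ∀ x ∈ cls G e, cj z x = x := fun x hx => by
    rw [cj_tor_left F.p _ (cls_range hx) (cls_ker hx)]; simp
  have ha' := min_cj ha (Subgroup.le_normalizer hzG)
  have hy' := hR z hzG _ hy
  rw [map_sub, hzc c hc] at hy'
  have ea' : cj z a = (1 - ((e * f + f * e) + (e * f + f * e))) * a * (1 - ((e * f + f * e) + (e * f + f * e))) := by
    rw [cj_apply, hzd, tor_inv, inv_neg, inv_one, tor_neg_val]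
  have ac := hcom c hc
  have ac' : c * cj z a = cj z a * c := by simpa only [map_mul, hzc c hc] using congrArg (cj z) ac
  generalize cj z a = a' at ha' hy' ea' ac'
  have hd : a' - a ∈ R := by simpa using R.sub_mem hy' hy
  have aa' : a * a' = a' * a := by
    by_contra hne
    have h1 : a * a' * a = 0 := by simpa [mul_sub, sub_mul, ha.sq] using hd a ha
    have h2 : a' * a * a' = 0 := by simpa [mul_sub, sub_mul, ha'.sq] using hd a' ha'
    have h3 := (class_two ha ha'.q0 h1 h2 (sub_ne_zero.2 hne)).1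
    refine h3.ne (hG.eq_zero H h3.q0 (mem_of_two_smul (W := R) H.two ?_))
    convert R.sub_mem (hR _ ha.q0.ex_mem _ hd) (hR _ ha.q0.neg.ex_mem _ hd) using 1
    simp only [cj_ex, add_mul, mul_add, sub_mul, mul_sub, one_mul, mul_one, mul_assoc, neg_mul, mul_neg, ha.sq,
      ha.q0.sq', mul_zero]
    abel
  have cc := cls_mul hc hc
  have hs : (a + a' - (c + c)) * (a + a' - (c + c)) = 0 := by
    have ae := (hcom e F.self_mem).symm
    have ae' : ∀ x, a * (e * x) = e * (a * x) := fun x => by rw [← mul_assoc, ae, mul_assoc]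
    have r1 : e * (a * (f * e)) = e * a := by rw [← ae', F.p.efe₀, ae]
    have r2 : ∀ x, e * (a * (f * (e * x))) = e * (a * x) := fun x => by rw [← ae', F.p.efe', ae']
    simp only [ea', hcd, add_mul, mul_add, sub_mul, mul_sub, one_mul, mul_one, mul_assoc, ae, ae', r1, r2, ha.sq,
      ha.q0.sq', F.p.ee, F.p.ee', F.p.ff, F.p.ff', F.p.efe', F.p.efe₀, F.p.fef', F.p.fef₀, mul_zero, zero_mul]
    abel
  have h1 : a * a' = (a * c + a * c) + (a' * c + a' * c) := by
    refine sub_eq_zero.1 (two_cancel H.two ?_)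
    rw [← hs]
    simp only [add_mul, mul_add, sub_mul, mul_sub, ha.sq, ha'.sq, cc, ac, ac', ← aa']
    abel
  have h2 : a * (a' * c) = 0 := by
    rw [← mul_assoc, h1]
    simp only [add_mul, mul_assoc, cc, mul_zero, add_zero]
  have h3 : a + a' - (c + c) = 0 := by
    have q := (cls_q0 (Submodule.neg_mem _ (Submodule.add_mem _ hc hc)))
    have e1 : ((ex a ha.sq * ex a' ha'.sq * ex _ q.sq : GLM) : End k M) - 1 = a + a' - (c + c) := by
      simp only [Units.val_mul, ex_val, add_mul, mul_add, one_mul, mul_one, mul_neg, mul_assoc, h2]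
      rw [h1]
      abel
    refine hG.eq_zero H (e1 ▸ q0_of_mem (G.mul_mem (G.mul_mem ha.q0.ex_mem ha'.q0.ex_mem) q.ex_mem) (e1 ▸ hs)) ?_
    change _ ∈ R
    convert R.add_mem hy hy' using 1
    abel
  have h4 : a * c = 0 := by
    have e1 : a' = c + c - a := by rw [← sub_eq_zero, ← h3]; abel
    have := ha'.sq
    simp only [e1, add_mul, mul_add, sub_mul, mul_sub, cc, ha.sq, ac] at this
    refine two_cancel H.two (two_cancel H.two (neg_eq_zero.1 ?_))
    rw [← this]; abel
  have := hG.eq_zero H (ha.q0.sub (cls_q0 hc) h4 (ac.trans h4)) hy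
  exact sub_eq_zero.1 this ▸ hc

theorem Conn.exists_fixed (h5 : 5 ≤ p) (hG : Conn G) (he : Min G e) {T : Subgroup GLM} (hT : T ≤ G) (hTp : IsPGroup p T) :
    ∃ a, Min G a ∧ ∀ t ∈ T, cj t a = a := by
  haveI : Finite (End k M) := finite_end
  letI : MulAction G {a : End k M // Min G a ∨ a = 0} :=
    { smul := fun g a => ⟨cj g a, a.2.imp (fun h => min_cj h (Subgroup.le_normalizer g.2)) fun h => by rw [h, map_zero]⟩
      one_smul := fun a => Subtype.ext (cj_one _)
      mul_smul := fun g h a => Subtype.ext (cj_mul _ _ _) }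
  have h1 := (core_isPGroup (G := G) (p := p) (by omega) e).comap_subtype (K := G) |>.card_modEq_card_fixedPoints
    {a : End k M // Min G a ∨ a = 0}
  have h2 : Nat.card (MulAction.fixedPoints ((core G e).subgroupOf G) {a : End k M // Min G a ∨ a = 0}) =
      Nat.card (cls G e) := Nat.card_congr
    { toFun := fun a => ⟨a.1.1, a.1.2.elim (fun h => hG.star h5 he h fun u hu =>
        congrArg Subtype.val (a.2 ⟨⟨u, hu.1⟩, hu⟩)) fun h => by rw [h]; exact Submodule.zero_mem _⟩
      invFun := fun a => ⟨⟨a.1, or_iff_not_imp_right.2 (he.of_mem_cls a.2)⟩, fun u => Subtype.ext (cj_core u.2 a.2)⟩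
      left_inv := fun _ => rfl
      right_inv := fun _ => rfl }
  have h3 : p ∣ Nat.card (cls G e) := by
    have := addOrderOf_dvd_natCard (⟨e, self_mem_cls he.q0⟩ : cls G e)
    rwa [addOrderOf_eq_prime (p := p) (by rw [← Nat.cast_smul_eq_nsmul k, ZMod.natCast_self, zero_smul])
      fun h => he.ne (congrArg Subtype.val h)] at this
  obtain ⟨b, hb, hne⟩ := (hTp.comap_subtype (K := G)).exists_fixed_point_of_prime_dvd_card_of_fixed_point
    {a : End k M // Min G a ∨ a = 0} ((h1.dvd_iff dvd_rfl).2 (h2 ▸ h3)) (a := ⟨0, Or.inr rfl⟩)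
    fun u => Subtype.ext (map_zero _)
  exact ⟨b.1, b.2.resolve_right fun h => hne (Subtype.ext h.symm), fun t ht => congrArg Subtype.val (hb ⟨⟨t, hT ht⟩, ht⟩)⟩

theorem Conn.exists_pair (h5 : 5 ≤ p) (hG : Conn G) {A P : Subgroup GLM} (h : Inv p G A P) {b : End k M} (hb : Min G b)
    (hbP : Q0 P b) : ∃ e f, Fr G e f ∧ (∀ α ∈ A, cj α e = e ∧ cj α f = f) ∧ e * b = b * e ∧ f * b = b * f := by
  haveI : Finite GLM := finite_gl
  have H := hyp_zmod h5
  have ho : Op G A := ⟨h.norm, h.cop, h.solv⟩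
  obtain ⟨T, hT, hPT, hAT⟩ := CL.Grp.exists_isSylowIn_ge_le_normalizer h.norm h.cop h.solv h.le h.pg h.nA
  obtain ⟨a, ha, hfix⟩ := hG.exists_fixed h5 hb hT.le hT.isPGroup
  have h1 : core G a ≤ T := le_sup_right.trans (hT.eq_of_le (hT.isPGroup.to_sup_of_normal_right'
    (core_isPGroup (by omega) a) fun t ht => mem_normalizer_core ha (Subgroup.le_normalizer (hT.le ht)) (by
      rw [conjBy_clsGrp' a (Subgroup.le_normalizer (hT.le ht)), hfix t ht])) le_sup_left (sup_le hT.le (core_le a))).le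
  have hfa : ∀ α ∈ A, conjBy (clsGrp G a) α = clsGrp G a := fun α hα =>
    conjBy_eq_of_cj_mem ha (h.norm hα) (hG.star h5 ha (min_cj ha (h.norm hα)) fun u hu => by
      rw [← cj_mul, show u * α = α * (α⁻¹ * u * α) by group, cj_mul,
        hfix _ ((Subgroup.mem_normalizer_iff''.1 (hAT hα) u).1 (h1 hu))])
  obtain ⟨c, hc, hac, hfc⟩ := ho.exists_fixed_opp (p := p) H hG.nu ha hfa
  obtain ⟨e, he, f, hf, F, hef⟩ := ho.exists_fixed_pair H ha hc hac hfa hfc
  have key : ∀ b, Min G b → Q0 P b → e * b = b * e := fun b hb hbP => comm_cls H ha hb (by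
    have := (cj_eq_iff _).1 (hfix _ (hPT hbP.ex_mem))
    simpa [add_mul, mul_add] using this.symm) he
  refine ⟨e, f, F, hef, key b hb hbP, ?_⟩
  have hn : F.p.n ∈ G ⊓ Subgroup.centralizer (A : Set GLM) := by
    have : ∀ x (hx : x * x = 0), (∀ α ∈ A, cj α x = x) → ex x hx ∈ Subgroup.centralizer (A : Set GLM) :=
      fun x hx h α hα => Units.ext (by simp [add_mul, mul_add, (cj_eq_iff α).1 (h α hα)])
    exact ⟨F.n_mem', F.p.n_mem (this e _ fun α hα => (hef α hα).1) (this f _ fun α hα => (hef α hα).2)⟩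
  have := congrArg (cj F.p.n) (key _ (min_cj hb (Subgroup.le_normalizer (G.inv_mem hn.1)))
    (q0_cj hbP (Subgroup.inv_mem _ (h.nC hn))))
  rw [map_mul, map_mul, cj_cj_inv, F.n_cj' F.self_mem, F.p.fef] at this
  simpa using this

end lin

/-- The statement for groups of order less than `n`. -/
def NoQ (p : ℕ) [Fact p.Prime] (n : ℕ) : Prop :=
  ∀ (M : Type u) [AddCommGroup M] [Module (ZMod p) M] [FiniteDimensional (ZMod p) M]
    (G A P : Subgroup (GeneralLinearGroup (ZMod p) M)), Nat.card G < n → NoUnip G → Inv p G A P → ∀ q, Q0 P q → q = 0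

theorem NoQ.abs {n : ℕ} (hn : NoQ.{u} p n) {Γ : Type*} [Group Γ] [Finite Γ] {G A P : Subgroup Γ} [G.Normal]
    (hG : Nat.card G < n) (h : Inv p G A P) {M : Type u} [AddCommGroup M] [Module (ZMod p) M]
    [FiniteDimensional (ZMod p) M] (ρ : Γ →* GeneralLinearGroup (ZMod p) M) (hirr : IsIrreducibleFor ρ.range) {x : Γ}
    (hx : x ∈ P) (hq : ((ρ x : End (ZMod p) M) - 1) * ((ρ x : End (ZMod p) M) - 1) = 0) : ρ x = 1 := by
  have hG' : NoUnip (G.map ρ) := (noUnip_of_irreducible hirr).of_normal (Subgroup.map_le_range _ _) (by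
    rintro _ ⟨g, rfl⟩
    refine Root.mem_normalizer_iff_conjBy.1 (Subgroup.le_normalizer_map ρ ⟨g, ?_, rfl⟩)
    exact Subgroup.le_normalizer_of_normal (K := ⊤) trivial)
  exact Units.ext (sub_eq_zero.1 (hn M _ _ _ ((Nat.le_of_dvd Nat.card_pos (Subgroup.card_map_dvd _ ρ)).trans_lt hG) hG'
    (h.map ρ) _ (q0_of_mem ⟨x, hx, rfl⟩ hq)))

theorem noQ (h5 : 5 ≤ p) (n : ℕ) : NoQ.{u} p n := by
  induction n with
  | zero => exact fun M _ _ _ G A P h => absurd h (Nat.not_lt_zero _)
  | succ n ih =>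
  intro M _ _ _ G A P hn hG h q hq
  haveI : Finite (GeneralLinearGroup (ZMod p) M) := finite_gl
  have H := hyp_zmod h5
  have hlt : ∀ {G' : Subgroup (GeneralLinearGroup (ZMod p) M)}, G' < G → Nat.card G' < n := fun h =>
    (CL.Grp.card_lt_card_of_lt h).trans_le (Nat.le_of_lt_succ hn)
  by_contra h0
  rcases exists_root H hG h.le h.pg hq h0 with ⟨ξ, hξ, hξ0, hc⟩ | ⟨P', b, hP'G, hP', hN, hb, hbP⟩
  · have hn : ∀ g ∈ Subgroup.normalizer (G : Set _), g ∈ Subgroup.normalizer
        ((G ⊓ Subgroup.centralizer (root0 G : Set _) : Subgroup _) : Set (GeneralLinearGroup (ZMod p) M)) :=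
      CL.Grp.le_normalizer_inf' le_rfl (CL.Grp.le_normalizer_centralizer' fun g hg =>
        Root.mem_normalizer_iff_conjBy.2 (conjBy_root0' hg))
    refine hξ0 (ih M _ A _ (hlt (lt_of_le_of_ne inf_le_left fun e => ?_)) (hG.of_normal inf_le_left fun g hg =>
      Root.mem_normalizer_iff_conjBy.1 (hn g (Subgroup.le_normalizer hg))) (h.inf inf_le_left fun α hα => hn α (h.norm hα))
      ξ (Q0.of_ex hξ.sq fun c => ⟨hξ.ex_smul_mem c, h.le (hξ.ex_smul_mem c), (mem_centralizer_root0 _).2 fun a ha => by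
        rw [mul_smul_comm, smul_mul_assoc, hc a ha]⟩))
    obtain ⟨a, ha⟩ := exists_min (hq.mono h.le) h0
    obtain ⟨f, hf, hp'⟩ := exists_pair H hG ha
    have := (mem_centralizer_root0 ha.sq).1 (e.ge ha.q0.ex_mem).2 f hf
    exact ha.ne (by rw [← hp'.efe, mul_assoc, this, hp'.ee'])
  have h' : Inv p G A P' := ⟨h.norm, h.cop, h.solv, hP'G, hP', (le_inf h.norm h.nA).trans hN,
    (le_inf (inf_le_left.trans Subgroup.le_normalizer) h.nC).trans hN⟩
  have hE := clsGrp_mem hb
  have hK := conn_compGrp H hG hE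
  have h1 := h'.inf_comp (compGrp_le (clsGrp G b)) (Op.comp_dichotomy H hG ⟨h.norm, h.cop, h.solv⟩ _)
  have hbK := (min_compGrp H hG hE).2 ⟨hb, self_mem_comp hE⟩
  have hKG := compGrp_le (G := G) (clsGrp G b)
  generalize compGrp G (clsGrp G b) = K at hK h1 hbK hKG
  generalize A ⊓ _ = A' at h1
  have hb1 : Q0 (P' ⊓ K) b := Q0.of_ex hb.sq fun c => ⟨hbP.ex_smul_mem c, hbK.q0.ex_smul_mem c⟩
  obtain ⟨e, f, F, hef, hbe, hbf⟩ := hK.exists_pair h5 h1 hbK hb1
  obtain ⟨c, F', hce, hcf⟩ := F.exists_comm_partner H h5 hK.nu hbK hbe hbf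
  let C := K ⊓ Subgroup.centralizer {ex e F.p.ee, ex f F.p.ff}
  have hC : ∀ x (hx : Q0 K x), e * x = x * e → f * x = x * f → ex x hx.sq ∈ C := by
    refine fun x hx h1 h2 => ⟨hx.ex_mem, ?_⟩
    rintro _ (rfl | rfl)
    exacts [(ex_commute_iff _ _).2 h1, (ex_commute_iff _ _).2 h2]
  have hA : A' ≤ Subgroup.normalizer (C : Set _) := by
    refine CL.Grp.le_normalizer_inf' h1.norm (le_trans ?_ Subgroup.le_normalizer)
    rintro α hα _ (rfl | rfl)
    · exact Units.ext (by simp [add_mul, mul_add, (cj_eq_iff α).1 (hef α hα).1])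
    · exact Units.ext (by simp [add_mul, mul_add, (cj_eq_iff α).1 (hef α hα).2])
  have h2 := (h1.inf inf_le_left hA).subgroupOf (L := C ⊔ A') le_sup_left le_sup_right
  haveI : (C.subgroupOf (C ⊔ A')).Normal :=
    (Subgroup.normal_subgroupOf_iff_le_normalizer le_sup_left).2 (sup_le Subgroup.le_normalizer hA)
  let x : ↥(C ⊔ A') := ⟨_, Subgroup.mem_sup_left (hC b hbK.q0 hbe hbf)⟩
  let y : ↥(C ⊔ A') := ⟨_, Subgroup.mem_sup_left (hC c F'.hf.q0 hce hcf)⟩
  have hxy : y⁻¹ = (x * y⁻¹ * x) * x * (x * y⁻¹ * x)⁻¹ := Subtype.ext (Units.ext (by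
    have := F'.n_cj' F'.self_mem
    rw [F'.p.fef] at this
    change 1 - c = ((F'.p.n * ex b hb.sq * F'.p.n⁻¹ : GeneralLinearGroup (ZMod p) M) : End (ZMod p) M)
    rw [← cj_coe, ex_val, map_add, map_one, this, sub_eq_add_neg]))
  obtain ⟨N, _, _, _, τ, a1, a2, a3⟩ := exists_factor (p := p) ((x * y⁻¹ * x) * (x * y⁻¹ * x)) _ M
    ((Units.coeHom _).comp (C ⊔ A').subtype) rfl fun m hm => by
      change ((F'.p.n * F'.p.n : GeneralLinearGroup (ZMod p) M) : End (ZMod p) M) ^ p ^ m = 1 at hm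
      rw [show F'.p.n * F'.p.n = tor F'.p (-1) from Units.ext (by rw [F'.p.n_sq, tor_neg_val]; abel),
        ← Units.val_pow_eq_pow_val, ← map_pow, Odd.neg_one_pow (hp.out.odd_of_ne_two (by omega)).pow, tor_neg_val,
        sub_eq_self] at hm
      have := congrArg (· * b) (two_cancel H.two hm)
      simp only [add_mul, mul_assoc, F'.p.efe₀, F'.p.ee, mul_zero, add_zero, zero_mul] at this
      exact hb.ne this
  have h3 := ih.abs (by
    rw [Nat.card_congr (Subgroup.subgroupOfEquivOfLe le_sup_left).toEquiv]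
    refine hlt (lt_of_lt_of_le (lt_of_le_of_ne inf_le_left fun e1 => ?_) hKG)
    have := (ex_commute_iff _ _).1 ((e1.ge F.hf.q0.ex_mem).2 _ (Or.inl rfl))
    exact F.he.ne (by rw [← F.p.efe, this, mul_assoc, F.p.ee, mul_zero])) h2 τ.toHomUnits a1 (x := x)
    ⟨hb1.ex_mem, hC b hbK.q0 hbe hbf⟩ (a3 x (by
      change ((1 + b) - 1) * ((1 + b) - 1) = 0
      rw [add_sub_cancel_left, hb.sq]))
  have h4 : τ.toHomUnits y⁻¹ = 1 := by rw [hxy, map_mul, map_mul, h3, mul_one, ← map_mul, mul_inv_cancel, map_one]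
  exact a2 (congrArg Units.val (show τ.toHomUnits _ = 1 by simp only [map_mul, h3, h4, one_mul]))

end CL.QAct
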