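/-
Flavell's equivariant analogue of the `ZJ`-theorem: `K_∞(P)` is normal.
-/
import Cfsg.Agent.QAct.NoQuad
import Cfsg.Agent.Loc.KinfWeak

set_option autoImplicit false
set_option linter.all false

namespace CL.QAct

open Cfsg CL.Grp Subgroup
open scoped commutatorElement

universe u

variable {p : ℕ} [hp : Fact p.Prime] {H : Type u} [Group H] [Finite H] {G A P : Subgroup H}

theorem Inv.chief (h5 : 5 ≤ p) [G.Normal] (h : Inv p G A P) {U V : Subgroup H} (hUV : IsChiefFactor U V)
    (hU : IsPGroup p U) {g : H} (hg : g ∈ P) (hq : ⁅⁅U, zpowers g⁆, zpowers g⁆ ≤ V) : ⁅U, zpowers g⁆ ≤ V := by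
  haveI := hUV.2.1
  haveI := hUV.2.2.1
  have hs := QuotientGroup.mk'_surjective V
  haveI : (G.map (QuotientGroup.mk' V)).Normal := Normal.map inferInstance _ hs
  obtain ⟨h1, -, h2⟩ := CL.Loc.minInv_top_of_chief hUV
  obtain ⟨M, _, _, _, ρ, hirr, hk, hquad⟩ := exists_rep (V := U.map (QuotientGroup.mk' V))
    ⟨Normal.map inferInstance _ hs, h1, fun K _ hK => h2 K hK le_normalizer_of_normal⟩ (hU.map _)
  haveI : FiniteDimensional (ZMod p) M := Module.Finite.of_finite
  have := hk _ ((noQ h5 _).abs (Nat.lt_succ_self _) (h.map (QuotientGroup.mk' V)) ρ hirr ⟨g, hg, rfl⟩ (hquad _ (by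
    rintro _ ⟨v, hv, rfl⟩
    rw [← commutatorElement_eq_one_iff_commute, ← map_commutatorElement, ← map_commutatorElement]
    exact (QuotientGroup.eq_one_iff _).2 (hq (commutator_mem_commutator
      (commutator_mem_commutator hv (mem_zpowers g)) (mem_zpowers g))))))
  rw [commutator_le]
  rintro u hu _ ⟨n, rfl⟩
  rw [← QuotientGroup.eq_one_iff]
  change QuotientGroup.mk' V _ = 1
  rw [map_commutatorElement, commutatorElement_eq_one_iff_commute, map_zpow]
  exact Commute.zpow_right (this _ ⟨u, hu, rfl⟩) n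

theorem Inv.kInf_normal (h5 : 5 ≤ p) [G.Normal] (h : Inv p G A P) (hO : pCore p H ≤ P)
    (hc : centralizer (pCore p H : Set H) ≤ pCore p H) : (inducedFunctor kInfLower P).Normal := by
  by_contra hne
  obtain ⟨g, hg, -, -, -, h1⟩ := CL.Loc.exists_quartic_of_kInf_not_normal hO (Or.inl hne)
  obtain ⟨U, V, hUV, hU, h2, h3⟩ := h1 hc
  exact h3 (h.chief h5 hUV ((pCore_isPGroup p H).to_le hU) hg h2)

theorem Inv.kInf_norm_aux (h5 : 5 ≤ p) [G.Normal] (h : Inv p G A P) (hi : G.index.Coprime p)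
    (hc : centralizer (pCore p G : Set G) ≤ pCore p G) (hO : pCoreOf p G ≤ P) :
    G ≤ normalizer (inducedFunctor kInfLower P : Set H) := by
  let f := QuotientGroup.mk' (pPrimeCore p H)
  have hs : Function.Surjective f := QuotientGroup.mk'_surjective _
  haveI : (G.map f).Normal := Normal.map inferInstance _ hs
  have hk : G ⊓ f.ker = ⊥ := by
    rw [QuotientGroup.ker_mk', inf_comm, ← pPrimeCoreOf_eq_inf_of_isSubnormal (Normal.isSubnormal inferInstance),
      pPrimeCoreOf, pPrimeCore_eq_bot_of_centralizer_pCore_le hc, Subgroup.map_bot]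
  have hn := (h.map f).kInf_normal h5 (fun x hx => ?_) (CL.Loc.isPConstrained_iff.1
    (isPConstrained_of_index hi (CL.Loc.isPConstrained_of_centralizer_pCore_le hc)))
  · rw [← map_inducedFunctor (CL.Loc.isCharPFunctor_kInfLower p) f h.pg
      (eq_bot_iff.2 (hk ▸ inf_le_inf_right _ h.le))] at hn
    refine fun g hg => mem_normalizer_fintype fun x hx => ?_
    obtain ⟨y, hy, e⟩ := hn.conj_mem _ ⟨x, hx, rfl⟩ (f g)
    have h1 : y⁻¹ * (g * x * g⁻¹) ∈ G ⊓ f.ker := ⟨G.mul_mem (G.inv_mem (h.le (inducedFunctor_le _ _ hy)))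
      (Normal.conj_mem inferInstance _ (h.le (inducedFunctor_le _ _ hx)) g), by
        change f _ = 1
        rw [map_mul, map_inv, e, map_mul, map_mul, map_inv, inv_mul_cancel]⟩
    rw [hk, mem_bot, inv_mul_eq_one] at h1
    exact h1 ▸ hy
  · obtain ⟨n, hn⟩ := pCore_isPGroup p _ ⟨x, hx⟩
    obtain ⟨y, hy, rfl⟩ := mem_of_pow_of_index (G := G.map f) (hi.coprime_dvd_left (G.index_map_dvd hs))
      (congrArg Subtype.val hn)
    refine ⟨y, hO (le_pCoreOf (N := G ⊓ (pCore p _).comap f) inf_le_left le_normalizer_of_normal (fun z => ?_) ⟨hy, hx⟩), rfl⟩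
    obtain ⟨m, hm⟩ := pCore_isPGroup p _ ⟨_, z.2.2⟩
    refine ⟨m, Subtype.ext (mem_bot.1 (hk ▸ ⟨G.pow_mem z.2.1 _, ?_⟩))⟩
    change f (z.1 ^ p ^ m) = 1
    rw [map_pow]
    exact congrArg Subtype.val hm

/-- **Flavell**: `K_∞(P)` is normalized by `G`. -/
theorem Inv.kInf_norm (h5 : 5 ≤ p) (h : Inv p G A P) (hc : G ⊓ centralizer (pCoreOf p G : Set H) ≤ pCoreOf p G)
    (hO : pCoreOf p G ≤ P) : G ≤ normalizer (inducedFunctor kInfLower P : Set H) := by
  by_cases hd : p ∣ Nat.card G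
  swap
  · have : P = ⊥ := (h.pg.card_eq_or_dvd.imp card_eq_one.1 fun h1 => h1.trans (card_dvd_of_le h.le)).resolve_right hd
    rw [le_bot_iff.1 ((inducedFunctor_le _ P).trans this.le)]
    exact le_normalizer_of_normal
  haveI : (G.subgroupOf (A ⊔ G)).Normal :=
    (normal_subgroupOf_iff_le_normalizer le_sup_right).2 (sup_le h.norm le_normalizer)
  have e := subgroupOfEquivOfLe (le_sup_right : G ≤ A ⊔ G)
  have h1 := (h.subgroupOf (L := A ⊔ G) le_sup_right le_sup_left).kInf_norm_aux h5 (by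
    change (G.relIndex (A ⊔ G)).Coprime p
    rw [relIndex_sup_of_le_normalizer h.norm]
    exact (h.cop.coprime_dvd_right hd).coprime_dvd_left (relIndex_dvd_card _ _))
    (CL.Loc.centralizer_pCore_le_of_equiv e.symm fun x hx => by
      obtain ⟨y, hy, e1⟩ := hc ⟨x.2, by
        rintro _ ⟨z, hz, rfl⟩
        exact congrArg Subtype.val (hx z hz)⟩
      exact Subtype.ext e1 ▸ hy) (by
      intro x hx
      refine hO ?_
      have := map_pCoreOf_of_injective (p := p) (subtype_injective _) (G.subgroupOf (A ⊔ G))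
      rw [map_subgroupOf_eq_of_le le_sup_right] at this
      exact this ▸ ⟨x, hx, rfl⟩)
  rw [← inducedFunctor_subgroupOf_map (CL.Loc.isCharPFunctor_kInfLower p) h.pg (h.le.trans le_sup_right : P ≤ A ⊔ G)]
  exact (map_subgroupOf_eq_of_le le_sup_right).ge.trans ((map_mono h1).trans (le_normalizer_map _))

end CL.QAct
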