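/-
Flavell's theorem on `K_∞(P)` in the presence of a central `p'`-subgroup.
-/
import Cfsg.Agent.QAct.Kinf
import Cfsg.Agent.Even.FStarAct

set_option autoImplicit false
set_option linter.all false

namespace CL.QAct

open Cfsg CL.Grp CL.Even Subgroup
open scoped commutatorElement

universe u

variable {p : ℕ} [hp : Fact p.Prime] {H : Type u} [Group H] [Finite H] {G A P Z : Subgroup H}

theorem core_map_le_of_central {H' : Type*} [Group H'] (f : H →* H') (hZ : G ⊓ f.ker ≤ 𝒞(G)) :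
    pCoreOf p (G.map f) ≤ (pCoreOf p G).map f := by
  let N := G ⊓ (pCoreOf p (G.map f)).comap f
  have hN : G ≤ 𝒩(N) := le_norm_of_cj_le fun g hg x hx => by
    obtain ⟨y, hy, rfl⟩ := hx
    refine ⟨G.mul_mem (G.mul_mem hg hy.1) (G.inv_mem hg), ?_⟩
    change f (g * y * g⁻¹) ∈ pCoreOf p (G.map f)
    rw [map_mul, map_mul, map_inv]
    exact conj_mem (self_le_norm_core _ ⟨g, hg, rfl⟩) hy.2
  obtain ⟨T, hT⟩ := exists_isSylowIn p N
  have h1 : pResidualOf p N ≤ G ⊓ f.ker := le_inf ((res_le _).trans inf_le_left) (res_le_of_pow fun x hx => by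
    obtain ⟨k, hk⟩ := isPGroup_iff_forall.1 (core_isP (p := p) _) _ hx.2
    exact ⟨k, by rw [MonoidHom.mem_ker, map_pow, hk]⟩)
  have h2 : N ≤ 𝒩(T) := le_of_syl_of_res hT le_normalizer
    (h1.trans (hZ.trans ((cent_mono (hT.le.trans inf_le_left)).trans (cent_le_norm _))))
  have h3 : T ≤ pCoreOf p G := le_core (hT.le.trans inf_le_left) hT.isPGroup fun g hg => by
    obtain ⟨n, hn, e⟩ := syl_conj hT (syl_cj_of_mem_norm hT (hN hg))
    rw [← cj_eq_iff_mem, ← e, cj_eq (h2 hn)]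
  intro x hx
  obtain ⟨y, hy, rfl⟩ := CL.Even.core_le _ hx
  obtain ⟨s, hs, r, hr, rfl⟩ := exists_syl_mul_res hT (h := y) ⟨hy, hx⟩
  exact ⟨s, h3 hs, by rw [map_mul, (h1 hr).2, mul_one]⟩

theorem Inv.kInf_norm_quot (h5 : 5 ≤ p) [Z.Normal] (h : Inv p G A P) (hZ : (Nat.card Z).Coprime p) (hZc : Z ≤ 𝒞(G))
    (hc : G ⊓ 𝒞(pCoreOf p G) ≤ pCoreOf p G ⊔ Z) (hO : pCoreOf p G ≤ P) :
    G ≤ 𝒩(inducedFunctor kInfLower P) := by
  let f := QuotientGroup.mk' Z
  have hk : f.ker = Z := QuotientGroup.ker_mk' Z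
  have hb : ∀ {Q : Subgroup H}, IsPGroup p Q → Q ⊓ Z = ⊥ := fun hQ =>
    eq_bot_of_isPGroup_of_coprime hQ.to_inf_left (hZ.coprime_dvd_left (card_dvd_of_le inf_le_right))
  have h1 : pCoreOf p (G.map f) = (pCoreOf p G).map f :=
    le_antisymm (core_map_le_of_central f (inf_le_right.trans (hk.le.trans hZc))) (map_core_le f G)
  have hn := (h.map f).kInf_norm h5 (by
    rw [h1]
    rintro _ ⟨⟨y, hy, rfl⟩, hx⟩
    have : y ∈ pCoreOf p G ⊔ Z := hc ⟨hy, fun o ho => by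
      rw [← commutatorElement_eq_one_iff_mul_comm, ← mem_bot, ← hb (core_isP G)]
      refine ⟨commutator_le_of_le_norm (self_le_norm_core G) (commutator_mem_commutator ho hy), ?_⟩
      refine hk.le (?_ : f _ = 1)
      rw [map_commutatorElement, commutatorElement_eq_one_iff_mul_comm]
      exact hx _ ⟨o, ho, rfl⟩⟩
    obtain ⟨a, ha, z, hz, rfl⟩ := (mem_sup_nr le_normalizer_of_normal).1 this
    exact ⟨a, ha, by rw [map_mul, MonoidHom.mem_ker.1 (hk.ge hz), mul_one]⟩) (h1 ▸ map_mono hO)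
  rw [← map_inducedFunctor (CL.Loc.isCharPFunctor_kInfLower p) f h.pg (by rw [hk, hb h.pg])] at hn
  refine fun g hg => mem_normalizer_fintype fun x hx => ?_
  obtain ⟨y, hy, e⟩ := conj_mem (hn ⟨g, hg, rfl⟩) ⟨x, hx, rfl⟩
  have hyP := inducedFunctor_le _ _ hy
  have hz : y⁻¹ * (g * x * g⁻¹) ∈ Z := by
    rw [← hk, MonoidHom.mem_ker, map_mul, map_inv, e, map_mul, map_mul, map_inv, inv_mul_cancel]
  obtain ⟨a, ha⟩ := isPGroup_iff_forall.1 h.pg _ hyP
  obtain ⟨b, hb'⟩ := isPGroup_iff_forall.1 h.pg _ (inducedFunctor_le _ _ hx)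
  have hcm : Commute y (y⁻¹ * (g * x * g⁻¹)) := comm_of_mem (hZc hz) (h.le hyP)
  have h2 : (y⁻¹ * (g * x * g⁻¹)) ^ p ^ (a + b) = 1 := by
    have := hcm.mul_pow (p ^ (a + b))
    rw [mul_inv_cancel_left, conj_pow, pow_add, pow_mul' x, hb', pow_mul y, ha] at this
    simpa [pow_add] using this.symm
  have h3 := eq_one_of_coprime_of_pow (hZ.coprime_dvd_left (Subgroup.orderOf_dvd_natCard _ hz)) h2
  rw [inv_mul_eq_one] at h3
  exact h3 ▸ hy

theorem Inv.kInf_norm_central (h5 : 5 ≤ p) (h : Inv p G A P) (hZ : (Nat.card Z).Coprime p) (hZc : Z ≤ 𝒞(G))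
    (hA : A ≤ 𝒩(Z)) (hc : G ⊓ 𝒞(pCoreOf p G) ≤ pCoreOf p G ⊔ Z) (hO : pCoreOf p G ≤ P) :
    G ≤ 𝒩(inducedFunctor kInfLower P) := by
  have hG : G ≤ 𝒩(Z) := (le_centralizer_iff.1 hZc).trans (cent_le_norm _)
  have e := pCoreOf_subgroupOf_map (p := p) hG
  have h1 := (h.subgroupOf hG hA).kInf_norm_quot (Z := Z.subgroupOf 𝒩(Z)) h5
    (by rwa [Nat.card_congr (subgroupOfEquivOfLe le_normalizer).toEquiv])
    (fun z hz g hg => Subtype.ext (hZc hz g hg)) (fun x hx => by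
      have := hc ⟨hx.1, fun o ho => by
        obtain ⟨o', ho', rfl⟩ := e.ge ho
        exact congrArg Subtype.val (hx.2 o' ho')⟩
      obtain ⟨y, hy, e1⟩ := (sup_le_sup e.ge (map_subgroupOf_eq_of_le (le_normalizer : Z ≤ _)).ge).trans
        (Subgroup.map_sup _ _ _).ge this
      exact Subtype.ext e1 ▸ hy) fun x hx => hO (e.le ⟨x, hx, rfl⟩)
  rw [← inducedFunctor_subgroupOf_map (CL.Loc.isCharPFunctor_kInfLower p) h.pg (h.le.trans hG)]
  exact (map_subgroupOf_eq_of_le hG).ge.trans ((map_mono h1).trans (le_normalizer_map _))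

end CL.QAct
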