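/-
Flavell's theorem on `O^p(F*(G))` under a noncyclic abelian operator group, part 1.
-/
import Cfsg.Agent.QAct.KinfZ
import Cfsg.Agent.Loc.KinfMax

set_option autoImplicit false
set_option linter.all false

namespace CL.QAct

open Cfsg CL.Grp CL.Even CL.Loc Subgroup
open scoped commutatorElement

universe u

variable {p : ℕ} [hp : Fact p.Prime] {X : Type u} [Group X] [Finite X]

/-- `O^p(F*(H))` -/
abbrev dd (p : ℕ) (H : Subgroup X) : Subgroup X := pResidualOf p (fstarOf H)

omit hp [Finite X] in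
theorem dd_le (H : Subgroup X) : dd p H ≤ H := (res_le _).trans (fstarOf_le _)

omit hp [Finite X] in
theorem le_norm_dd {L H : Subgroup X} (h : L ≤ 𝒩(H)) : L ≤ 𝒩(dd p H) :=
  le_norm_res (h.trans (normalizer_le_normalizer_fstarOf H))

theorem fstar_le_core_sup {H W : Subgroup X} (h1 : subgroupLayer H ≤ W)
    (h2 : ∀ (q : ℕ) [Fact q.Prime], q ≠ p → pCoreOf q H ≤ W) : fstarOf H ≤ pCoreOf p H ⊔ W := by
  rw [fstarOf_eq]
  refine sup_le (h1.trans le_sup_right) (fittingOf_le_of_forall_pCoreOf_le fun q _ => ?_)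
  by_cases e : q = p
  · subst e; exact le_sup_left
  · exact (h2 q e).trans le_sup_right

theorem fstar_le_core_sup_dd (H : Subgroup X) : fstarOf H ≤ pCoreOf p H ⊔ dd p H :=
  fstar_le_core_sup ((res_eq_self_of_perfect (commutator_subgroupLayer_self H)).ge.trans
    (res_mono (subgroupLayer_le_fstarOf H))) fun q _ e => le_res_of_coprime
      ((pCoreOf_le_fittingOf q H).trans (fittingOf_le_fstarOf H)) (by
        obtain ⟨n, hn⟩ := (core_isP (p := q) H).exists_card_eq
        rw [hn]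
        exact ((Nat.coprime_primes Fact.out hp.out).2 e).pow_left _)

theorem dd_le_cent_core (H : Subgroup X) : dd p H ≤ 𝒞(pCoreOf p H) :=
  (res_mono (fstar_le_core_sup (le_centralizer_iff.1 ((pCoreOf_le_fittingOf p H).trans
    (fittingOf_le_centralizer_subgroupLayer H))) fun q _ e => commutator_eq_bot_iff'.1
      (commutator_pCoreOf_eq_bot ((Nat.coprime_primes hp.out Fact.out).2 e.symm) H))).trans
    (res_sup_le_of_isPGroup (core_isP H) (le_norm_cent le_normalizer))

theorem dd_mono {H K : Subgroup X} (h : SubnIn H K) : dd p H ≤ dd p K := res_mono (fstarOf_mono_of_subnIn h)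

theorem dd_dd (H : Subgroup X) : dd p (dd p H) = dd p H := by
  rw [dd, fstarOf_eq_self_of_subnIn ((subnIn_res _).trans (fstarOf_subnIn H)) (res_le _), res_res]

theorem coprime_res_of_comm {L : Subgroup X} (h : pResidualOf p L ≤ 𝒞(pResidualOf p L)) :
    (Nat.card (pResidualOf p L)).Coprime p := by
  refine coprime_card_of_forall fun Q hQ hQp => eq_bot_iff.2 fun x hx => eq_one_of_coprime_of_mem hQp ?_ hx
  have hx' := hQ hx
  clear hx
  rw [res_eq_closure] at hx' h
  induction hx' using closure_induction with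
  | mem x hx => exact hx.2
  | one => simp
  | mul x y hx hy ihx ihy =>
    exact (Nat.Coprime.mul_left ihx ihy).coprime_dvd_left
      (Commute.orderOf_mul_dvd_mul_orderOf (comm_of_mem (h hy) hx))
  | inv x _ ih => rwa [orderOf_inv]

/-- the operator group together with its fixed points -/
abbrev ast (G R : Subgroup X) : Subgroup X := R ⊔ (G ⊓ 𝒞(R))

/-- `P` is the largest `p`-subgroup of `G` invariant under `R C_G(R)`. -/
structure Mx (p : ℕ) (G R P : Subgroup X) : Prop extends Inv p G R P where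
  max : ∀ Q : Subgroup X, Q ≤ G → IsPGroup p Q → ast G R ≤ 𝒩(Q) → Q ≤ P

variable {G R P : Subgroup X}

theorem exists_mx (hn : R ≤ 𝒩(G)) (hc : (Nat.card R).Coprime (Nat.card G))
    (hs : Group.IsSolvable R ∨ Group.IsSolvable G) : ∃ P, Mx p G R P := by
  obtain ⟨T, hT, -, hTR⟩ := exists_isSylowIn_ge_le_normalizer (p := p) hn hc hs bot_le IsPGroup.of_bot
    le_normalizer_of_normal
  let I := {Q : Subgroup X // Q ≤ G ∧ IsPGroup p Q ∧ ast G R ≤ 𝒩(Q)}
  have h1 : (⨆ Q : I, Q.1) ≤ T := iSup_le fun Q => by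
    obtain ⟨S, hS, hQS, hSR⟩ := exists_isSylowIn_ge_le_normalizer hn hc hs Q.2.1 Q.2.2.1 (le_sup_left.trans Q.2.2.2)
    obtain ⟨c, hc, e⟩ := hS.exists_centralizer_conj_eq hn hc hs hT hSR hTR
    exact (cj_eq (Q.2.2.2 (mem_sup_right hc))).ge.trans ((cj_mono c hQS).trans e.le)
  have h2 : ast G R ≤ 𝒩(⨆ Q : I, Q.1) := le_norm_iSup fun Q => Q.2.2.2
  exact ⟨_, ⟨hn, hc, hs, h1.trans hT.le, hT.isPGroup.to_le h1, le_sup_left.trans h2, le_sup_right.trans h2⟩,
    fun Q a b c => le_iSup (fun Q : I => Q.1) ⟨Q, a, b, c⟩⟩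

omit hp [Finite X] in
theorem Mx.nP (h : Mx p G R P) : ast G R ≤ 𝒩(P) := sup_le h.nA h.nC

omit hp [Finite X] in
theorem Mx.nG (h : Mx p G R P) : ast G R ≤ 𝒩(G) := sup_le h.norm (le_norm_of_le inf_le_left)

omit hp in
theorem Inv.sup (h : Inv p G R P) {H : Subgroup X} (hH : H ≤ G) (hn : R ≤ 𝒩(H)) : ⁅H, R⁆ ⊔ (H ⊓ 𝒞(R)) = H :=
  commutator_sup_centralizer_eq hn (h.inf hH hn).cop (h.inf hH hn).solv

theorem Mx.normK (h5 : 5 ≤ p) (h : Mx p G R P) {H : Subgroup X} (hH : H ≤ G) (hn : ast G R ≤ 𝒩(H))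
    (hL : R ≤ 𝒞(dd p H)) : H ≤ 𝒩(inducedFunctor kInfLower (P ⊓ H)) := by
  have hQ : ast G R ≤ 𝒩(P ⊓ H) := le_norm_inf h.nP hn
  have hD : dd p H ≤ 𝒩(P ⊓ H) :=
    (le_inf ((dd_le H).trans hH) (le_centralizer_iff.1 hL)).trans (le_sup_right.trans hQ)
  have hHD : H ≤ 𝒩(dd p H) := le_norm_dd le_normalizer
  have h1 : dd p H ≤ 𝒞(P ⊓ H) := res_le_cent (core_isP H) ((le_inf (commutator_le_of_le_norm hD)
    (commutator_le_of_le_norm' (inf_le_right.trans hHD))).trans (le_core_of_subnIn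
      ((SubnIn.of_le_normalizer inf_le_right (le_norm_inf hD le_normalizer)).trans
        (SubnIn.of_le_normalizer (dd_le H) hHD)) h.pg.to_inf_left.to_inf_left)) (dd_le_cent_core H)
  have h0 : ast G R ≤ 𝒩(H ⊓ 𝒞(dd p H)) := le_norm_inf hn (le_norm_cent (le_norm_dd hn))
  have e : P ⊓ (H ⊓ 𝒞(dd p H)) = P ⊓ H := by
    rw [← inf_assoc, inf_eq_left.2 (le_centralizer_iff.1 h1)]
  have hZ : dd p (H ⊓ 𝒞(dd p H)) ≤ 𝒞(H ⊓ 𝒞(dd p H)) := le_centralizer_iff.1 (inf_le_right.trans (cent_mono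
    (dd_mono (SubnIn.of_le_normalizer inf_le_left (le_norm_inf le_normalizer (le_norm_cent hHD))))))
  have h2 := (h.toInv.inf (inf_le_left.trans hH) (le_sup_left.trans h0)).kInf_norm_central h5
    (coprime_res_of_comm (hZ.trans (cent_mono (dd_le _)))) hZ (le_norm_dd (le_sup_left.trans h0))
    (le_trans (le_inf inf_le_left (le_trans (by
      rw [cent_sup]
      exact le_inf inf_le_right (inf_le_left.trans (le_centralizer_iff.1 hZ))) (cent_mono (fstar_le_core_sup_dd _))))
      ((inf_centralizer_fstarOf_le _).trans ((fittingOf_le_fstarOf _).trans (fstar_le_core_sup_dd _))))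
    (le_inf (h.max _ ((CL.Even.core_le _).trans (inf_le_left.trans hH)) (core_isP _) (le_norm_core h0))
      (CL.Even.core_le _))
  rw [e] at h2
  refine (h.toInv.sup hH (le_sup_left.trans hn)).ge.trans (sup_le (le_trans (le_inf
    (commutator_le_of_le_norm (le_sup_left.trans hn)) ((commutator_mono le_rfl hL).trans
      (commutator_le_of_le_norm' (le_norm_cent hHD)))) h2) ?_)
  exact ((inf_le_inf_right _ hH).trans (le_sup_right.trans hQ)).trans
    (normalizer_le_normalizer_inducedFunctor (isCharPFunctor_kInfLower p) h.pg.to_inf_left)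

end CL.QAct
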