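/-
Flavell's theorem on `O^p(F*(G))` under a noncyclic abelian operator group, part 2.
-/
import Cfsg.Agent.QAct.Res1
import Cfsg.Agent.Grp.Coprime2
import Cfsg.Agent.HHS.Basic

set_option autoImplicit false
set_option linter.all false

namespace CL.QAct

open Cfsg CL.Grp CL.Even CL.Loc Subgroup
open scoped commutatorElement

universe u

variable {p : ℕ} [hp : Fact p.Prime] {X : Type u} [Group X] [Finite X] {G R P S : Subgroup X}

/-- the induction step: `S` is an invariant `p`-subgroup and the claim holds for all larger ones -/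
structure Stp (p : ℕ) (G R P S : Subgroup X) : Prop extends Mx p G R P where
  h5 : 5 ≤ p
  SP : S ≤ P
  nS : ast G R ≤ 𝒩(S)
  ih : ∀ T : Subgroup X, S < T → T ≤ P → ast G R ≤ 𝒩(T) → R ≤ 𝒞(dd p (G ⊓ 𝒩(T)))

namespace Stp

omit hp [Finite X] in
theorem nD (h : Stp p G R P S) : ast G R ≤ 𝒩(dd p (G ⊓ 𝒩(S))) :=
  le_norm_dd (le_norm_inf h.nG (le_normalizer_normalizer' h.nS))

theorem cS (h : Stp p G R P S) : dd p (G ⊓ 𝒩(S)) ≤ 𝒞(S) :=
  (dd_le_cent_core _).trans (cent_mono (le_core (le_inf (h.SP.trans h.le) le_normalizer) (h.pg.to_le h.SP)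
    inf_le_right))

theorem big (h : Stp p G R P S) {U : Subgroup X} (hU : U ≤ P ⊓ dd p (G ⊓ 𝒩(S))) (hn : ast G R ≤ 𝒩(U))
    (hb : ¬ U ≤ 𝒞(dd p (G ⊓ 𝒩(S)))) : R ≤ 𝒞(dd p (dd p (G ⊓ 𝒩(S)) ⊓ 𝒩(U))) := by
  have h1 := h.ih (U ⊔ S) (right_lt_sup.2 fun e => hb (e.trans (le_centralizer_iff.1 h.cS)))
    (sup_le (hU.trans inf_le_left) h.SP) (le_norm_sup hn h.nS)
  refine h1.trans (cent_mono ((dd_dd _).ge.trans (dd_mono ((SubnIn.of_le_normalizer (K := G ⊓ 𝒞(U ⊔ S)) ?_ ?_).trans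
    (SubnIn.of_le_normalizer (inf_le_inf_left _ (cent_le_norm _))
      (le_norm_inf (le_norm_of_le inf_le_left) (le_norm_cent inf_le_right)))))))
  · rw [cent_sup]
    exact le_inf ((dd_le _).trans (inf_le_left.trans ((dd_le _).trans inf_le_left))) (le_inf
      ((dd_le_cent_core _).trans (cent_mono (le_core (le_inf (hU.trans inf_le_right) le_normalizer)
        (h.pg.to_le (hU.trans inf_le_left)) inf_le_right))) ((dd_le _).trans (inf_le_left.trans h.cS)))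
  · rw [cent_sup]
    exact le_norm_dd (le_norm_inf (le_norm_dd (le_norm_of_le (inf_le_inf_left _ (inf_le_right.trans (cent_le_norm _)))))
      (le_norm_of_le (inf_le_right.trans (inf_le_left.trans (cent_le_norm _)))))

theorem bigK {Q D : Subgroup X} (hQ : IsPGroup p Q) (hD : Q ≤ D) (hb : ¬ Q ≤ 𝒞(D)) :
    ¬ inducedFunctor kInfLower Q ≤ 𝒞(D) := fun e =>
  hb ((le_inf le_rfl (hD.trans (le_centralizer_iff.1 e))).trans
    ((inf_centralizer_induced_kInfLower_le hQ.isNilpotent).trans e))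

theorem le_normK (h : Stp p G R P S) (n : ℕ) : ∀ H : Subgroup X, H ≤ dd p (G ⊓ 𝒩(S)) → ast G R ≤ 𝒩(H) →
    R ≤ 𝒞(dd p H) → ¬ P ⊓ H ≤ 𝒞(dd p (G ⊓ 𝒩(S))) → (P ⊓ H).index < n →
    H ≤ 𝒩(inducedFunctor kInfLower (P ⊓ dd p (G ⊓ 𝒩(S)))) := by
  induction n with
  | zero => exact fun _ _ _ _ _ h => absurd h (Nat.not_lt_zero _)
  | succ n ih =>
    intro H hH hn hL hb hi
    have h1 := h.toMx.normK h.h5 (hH.trans ((dd_le _).trans inf_le_left)) hn hL
    rcases (inf_le_inf_left P hH).eq_or_lt with e | e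
    · exact e ▸ h1
    have hQ : IsPGroup p (P ⊓ H : Subgroup X) := h.pg.to_inf_left
    have h2 := normalizer_le_normalizer_inducedFunctor (isCharPFunctor_kInfLower p) hQ
    have h3 : ast G R ≤ 𝒩(inducedFunctor kInfLower (P ⊓ H)) := (le_norm_inf h.nP hn).trans h2
    have h4 : P ⊓ H < P ⊓ (dd p (G ⊓ 𝒩(S)) ⊓ 𝒩(inducedFunctor kInfLower (P ⊓ H))) :=
      (lt_inf_normalizer_of_isPGroup h.pg.to_inf_left e).trans_le ((inf_le_inf_left _ h2).trans (inf_assoc _ _ _).le)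
    exact (le_inf hH h1).trans (ih _ inf_le_left (le_norm_inf h.nD (le_normalizer_normalizer' h3))
      (h.big ((inducedFunctor_le _ _).trans e.le) h3 (bigK hQ (inf_le_right.trans hH) hb))
      (fun e1 => hb (h4.le.trans e1)) ((index_strictAnti h4).trans_le (Nat.lt_succ_iff.1 hi)))

theorem loc (h : Stp p G R P S) {W : Subgroup X} (hW : ast G R ≤ 𝒩(W)) (hL : R ≤ 𝒞(dd p (G ⊓ W))) :
    (∃ U : Subgroup X, U ≤ P ⊓ dd p (G ⊓ 𝒩(S)) ∧ ast G R ≤ 𝒩(U) ∧ ¬ U ≤ 𝒞(dd p (G ⊓ 𝒩(S))) ∧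
      dd p (G ⊓ 𝒩(S)) ⊓ W ≤ 𝒩(U)) ∨
    dd p (G ⊓ 𝒩(S)) ⊓ W ≤ (P ⊓ dd p (G ⊓ 𝒩(S))) ⊔ (dd p (G ⊓ 𝒩(S)) ⊓ 𝒞(R)) := by
  have hD := h.nD
  have hc := h.cS
  have hDG : dd p (G ⊓ 𝒩(S)) ≤ G := (dd_le _).trans inf_le_left
  have hND : G ⊓ 𝒩(S) ≤ 𝒩(dd p (G ⊓ 𝒩(S))) := le_norm_dd le_normalizer
  generalize dd p (G ⊓ 𝒩(S)) = D at *
  have hV : ast G R ≤ 𝒩(pCoreOf p (G ⊓ W)) := le_norm_core (le_norm_inf h.nG hW)
  have hB : pCoreOf p (G ⊓ W) ⊔ S ≤ P :=
    sup_le (h.max _ ((CL.Even.core_le _).trans inf_le_left) (core_isP _) hV) h.SP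
  have hY : ast G R ≤ 𝒩(D ⊓ W) := le_norm_inf hD hW
  have hYW : D ⊓ W ≤ G ⊓ W := inf_le_inf_right _ hDG
  have hS : D ⊓ W ≤ 𝒩(S) := inf_le_left.trans (hc.trans (cent_le_norm _))
  have h1 : D ⊓ W ≤ 𝒩(pCoreOf p (G ⊓ W) ⊔ S) := le_norm_sup (hYW.trans (self_le_norm_core _)) hS
  have h2 : ⁅(pCoreOf p (G ⊓ W) ⊔ S) ⊓ 𝒞(S), D ⊓ W⁆ ≤ P ⊓ D := le_inf
    ((commutator_le_of_le_norm (le_norm_inf h1 (le_norm_cent hS))).trans (inf_le_left.trans hB))
    ((commutator_mono le_rfl inf_le_left).trans (commutator_le_of_le_norm'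
      ((inf_le_inf (hB.trans h.le) (cent_le_norm _)).trans hND)))
  by_cases hb : ⁅(pCoreOf p (G ⊓ W) ⊔ S) ⊓ 𝒞(S), D ⊓ W⁆ ≤ 𝒞(D)
  swap
  · exact Or.inl ⟨_, h2, le_norm_commutator (le_norm_inf (le_norm_sup hV h.nS) (le_norm_cent h.nS)) hY, hb,
      CL.HHS.right_norm _ _⟩
  right
  have hI := h.toInv.inf (inf_le_left.trans hDG : D ⊓ W ≤ G) (le_sup_left.trans hY)
  have hLY : ⁅D ⊓ W, R⁆ ≤ D ⊓ W := commutator_le_of_le_norm hI.norm
  have hr : pResidualOf p ⁅D ⊓ W, R⁆ ≤ D ⊓ W := (res_le _).trans hLY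
  have h3 : pResidualOf p ⁅D ⊓ W, R⁆ ≤ 𝒞(pCoreOf p (G ⊓ W) ⊔ S) := pxq (P := S) (h.pg.to_le hB)
    ((res_eq_bot_of_isPGroup (h.pg.to_le h.SP)).le.trans bot_le) (le_norm_of_le le_sup_right) (hLY.trans h1)
    ((commutator_eq_bot_iff'.2 (hLY.trans (inf_le_left.trans hc))).le.trans bot_le)
    (res_le_cent (h.pg.to_le (h2.trans inf_le_left)) (commutator_mono le_rfl hr)
      (hr.trans (inf_le_left.trans (le_centralizer_iff.1 hb))))
  have h4 : pResidualOf p ⁅D ⊓ W, R⁆ ≤ 𝒞(R) := by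
    refine (res_res _).ge.trans ((res_mono ((le_inf (hr.trans hYW) (le_trans ?_ (cent_mono (fstar_le_core_sup_dd (p := p) _)))).trans
      ((inf_centralizer_fstarOf_le _).trans (fittingOf_le_fstarOf _)))).trans (le_centralizer_iff.1 hL))
    rw [cent_sup]
    exact le_inf (h3.trans (cent_mono le_sup_left)) ((res_le _).trans ((commutator_mono le_rfl hL).trans
      (commutator_le_of_le_norm' (le_norm_cent (le_norm_dd (le_norm_of_le hYW))))))
  have h5 : ⁅D ⊓ W, R⁆ ≤ 𝒞(pResidualOf p ⁅D ⊓ W, R⁆) := (commutator_mono le_rfl (le_centralizer_iff.1 h4)).trans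
    (commutator_le_of_le_norm' (le_norm_cent (le_norm_res (CL.HHS.left_norm _ _))))
  have hJ := hI.inf hLY (CL.HHS.right_norm _ _)
  obtain ⟨T, hT, -, hTR⟩ := exists_isSylowIn_ge_le_normalizer (p := p) hJ.norm hJ.cop hJ.solv bot_le IsPGroup.of_bot
    le_normalizer_of_normal
  have h6 : ⁅D ⊓ W, R⁆ ≤ T := (commutator_commutator_eq' hI.norm hI.cop).ge.trans ((CL.HHS.comm_le_of_le_sup
    (syl_sup_res hT).ge h4 ((le_centralizer_iff.1 (hT.le.trans h5)).trans (cent_le_norm _))).trans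
      (commutator_le_of_le_norm hTR))
  exact (hI.sup le_rfl hI.norm).ge.trans (sup_le_sup (le_inf (h.max _ (hLY.trans (inf_le_left.trans hDG))
    (hT.isPGroup.to_le h6) (le_norm_commutator hY (sup_le le_normalizer (inf_le_right.trans (cent_le_norm _)))))
    (hLY.trans inf_le_left)) (inf_le_inf_right _ inf_le_left))

theorem step (h : Stp p G R P S) [IsMulCommutative R] (hnc : ¬ IsCyclic R)
    (hL : ∀ a ∈ R, a ≠ 1 → R ≤ 𝒞(dd p (G ⊓ centralizer {a}))) : R ≤ 𝒞(dd p (G ⊓ 𝒩(S))) := by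
  have hI := h.toInv.inf ((dd_le (G ⊓ 𝒩(S))).trans inf_le_left : dd p _ ≤ G) (le_sup_left.trans h.nD)
  have hW : ∀ a ∈ R, ast G R ≤ 𝒩(centralizer {a}) := fun a ha => le_norm_of_le (sup_le
    (fun x hx => mem_centralizer_singleton_iff.2 (setLike_mul_comm hx ha))
    fun x hx => mem_centralizer_singleton_iff.2 (hx.2 a ha).symm)
  have h1 : P ⊓ dd p (G ⊓ 𝒩(S)) ≤ 𝒞(dd p (G ⊓ 𝒩(S))) := by
    by_contra hb
    have h2 := normalizer_le_normalizer_inducedFunctor (isCharPFunctor_kInfLower p) hI.pg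
    refine bigK hI.pg hI.le hb ((le_core (p := p) ((inducedFunctor_le _ _).trans hI.le)
      (hI.pg.to_le (inducedFunctor_le _ _)) (le_of_forall_centralizer_le hnc hI.norm hI.cop fun a ha h1 => ?_)).trans
      (le_centralizer_iff.1 ((dd_dd _).ge.trans (dd_le_cent_core _))))
    rcases h.loc (hW a ha) (hL a ha h1) with ⟨U, h3, h4, h5, h6⟩ | h3
    · exact (le_inf inf_le_left h6).trans (h.le_normK _ _ inf_le_left (le_norm_inf h.nD (le_normalizer_normalizer' h4))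
        (h.big h3 h4 h5) (fun e => h5 ((le_inf (h3.trans inf_le_left) (le_inf (h3.trans inf_le_right)
          le_normalizer)).trans e)) (Nat.lt_succ_self _))
    · exact h3.trans (sup_le (le_normalizer.trans h2) (hI.nC.trans h2))
  refine le_centralizer_iff.1 ((res_res _).ge.trans ((res_mono (le_of_forall_centralizer_le hnc hI.norm hI.cop
    fun a ha h2 => (h.loc (hW a ha) (hL a ha h2)).resolve_left fun ⟨U, h3, _, h5, _⟩ => h5 (h3.trans h1))).trans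
    ((res_sup_le_of_isPGroup hI.pg (h1.trans ((cent_mono inf_le_left).trans (cent_le_norm _)))).trans inf_le_right)))

end Stp

/-- **Flavell**: if `R` centralizes `O^p(F*(C_G(a)))` for all `a ∈ R^#`, then `R` centralizes `O^p(F*(G))`. -/
theorem le_cent_dd (h5 : 5 ≤ p) [IsMulCommutative R] (hnc : ¬ IsCyclic R) (hn : R ≤ 𝒩(G))
    (hc : (Nat.card R).Coprime (Nat.card G)) (hL : ∀ a ∈ R, a ≠ 1 → R ≤ 𝒞(dd p (G ⊓ centralizer {a}))) :
    R ≤ 𝒞(dd p G) := by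
  obtain ⟨P, h⟩ := exists_mx (p := p) hn hc (Or.inl (Group.isSolvable_of_comm fun a b => mul_comm' a b))
  have key : ∀ (n : ℕ) (S : Subgroup X), S.index < n → S ≤ P → ast G R ≤ 𝒩(S) → R ≤ 𝒞(dd p (G ⊓ 𝒩(S))) := by
    intro n
    induction n with
    | zero => exact fun _ h => absurd h (Nat.not_lt_zero _)
    | succ n ih =>
      exact fun S hi h1 h2 => Stp.step ⟨h, h5, h1, h2, fun T h3 =>
        ih T ((index_strictAnti h3).trans_le (Nat.lt_succ_iff.1 hi))⟩ hnc hL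
  have := key _ ⊥ (Nat.lt_succ_self _) bot_le le_normalizer_of_normal
  rwa [inf_eq_left.2 le_normalizer_of_normal] at this

end CL.QAct
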